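import Groth.Prelude.Def_CycCov
import Groth.Agent.AmpleX.Extend
import Groth.Agent.ZeroSchX.Basic
import Groth.Agent.QCoh.Stalk

/-!
# Frames of invertible modules on affine opens, and equations of divisors of zeros
-/

universe u

open CategoryTheory AlgebraicGeometry Opposite TopologicalSpace

namespace Groth.Agent.CycCovGeo

variable {X : Scheme.{u}} {L : X.Modules}

/-- A basis of the sections of an invertible module over an affine open is a frame. -/
theorem isFrame_of_isGen (hL : PicF.IsInvertible L) (U : X.affineOpens) {e : Γ(L, U.1)}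
    (he : CycCov.IsGen L U.1 e) : InvX.IsFrame e := by
  have hq : Coh.IsQCoh L := ZeroSchX.isQCoh_inv hL
  refine InvX.isFrame_of_germ fun x hx => ?_
  letI := QCoh.stalkModule L hx
  have hloc := QCoh.isLocalizedModule_germLin hq U.2 hx
  letI := QCoh.stalkAlg (U := U.1) hx
  haveI := QCoh.isLocalization_stalk' U.2 hx
  constructor
  · refine fun c c' h => sub_eq_zero.1 ?_
    dsimp only at h
    have h0 : (c - c') • L.presheaf.germ U.1 x hx e = 0 := by rw [sub_smul, h, sub_self]
    obtain ⟨⟨a, s⟩, hs⟩ := IsLocalization.surj (U.2.primeIdealOf ⟨x, hx⟩).asIdeal.primeCompl (c - c')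
    have ha : L.presheaf.germ U.1 x hx (a • e) = 0 := by
      rw [QCoh.germ_smul']
      show algebraMap Γ(X, U.1) (X.presheaf.stalk x) a • _ = 0
      rw [← hs, mul_comm, mul_smul, h0, smul_zero]
    obtain ⟨g, hg⟩ := (IsLocalizedModule.eq_zero_iff (U.2.primeIdealOf ⟨x, hx⟩).asIdeal.primeCompl
      (QCoh.germLin L hx)).1 ha
    have hga : (g : Γ(X, U.1)) * a = 0 := he.1 (by
      show ((g : Γ(X, U.1)) * a) • e = (0 : Γ(X, U.1)) • e
      rw [mul_smul, zero_smul]; exact hg)
    have h1 : algebraMap Γ(X, U.1) (X.presheaf.stalk x) a = 0 :=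
      (IsUnit.mul_right_eq_zero (IsLocalization.map_units (X.presheaf.stalk x) g)).1
        (by rw [← map_mul, hga, map_zero])
    rw [h1] at hs
    exact (IsLocalization.map_units (X.presheaf.stalk x) s).mul_left_eq_zero.1 hs
  · intro y
    obtain ⟨⟨m, s⟩, hm⟩ := IsLocalizedModule.surj (U.2.primeIdealOf ⟨x, hx⟩).asIdeal.primeCompl
      (QCoh.germLin L hx) y
    obtain ⟨b, hb⟩ := he.2 m
    obtain ⟨su, hsu⟩ := IsLocalization.map_units (X.presheaf.stalk x) s
    refine ⟨↑su⁻¹ * X.presheaf.germ U.1 x hx b, ?_⟩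
    show (↑su⁻¹ * X.presheaf.germ U.1 x hx b) • L.presheaf.germ U.1 x hx e = y
    rw [mul_smul, ← QCoh.germ_smul', show b • e = m from hb]
    show (↑su⁻¹ : X.presheaf.stalk x) • QCoh.germLin L hx m = y
    rw [← hm]
    show (↑su⁻¹ : X.presheaf.stalk x) • (algebraMap Γ(X, U.1) (X.presheaf.stalk x) s • y) = y
    rw [← hsu, ← mul_smul, Units.inv_mul, one_smul]

theorem isGen_of_isFrame {U : X.Opens} {e : Γ(L, U)} (he : InvX.IsFrame e) : CycCov.IsGen L U e := by
  have h := he U le_rfl
  rwa [show (fun b : Γ(X, U) => b • AModX.res L (le_refl U) e) = fun b => b • e from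
    funext fun b => by rw [AModX.res_self]] at h

theorem lpow_eq_powElt (U : X.Opens) (e : Γ(L, U)) :
    ∀ n, CycCov.lpow L U e n = AmpleX.powElt e n
  | 0 => rfl
  | n + 1 => by
    show SecTwist.tmul _ _ U (CycCov.lpow L U e n) e = InvX.tmul (AmpleX.powElt e n) e
    rw [lpow_eq_powElt U e n]
    rfl

theorem isFrame_lpow {U : X.Opens} {e : Γ(L, U)} (he : InvX.IsFrame e) (n : ℕ) :
    InvX.IsFrame (M := CohB1.tensorPow L n) (CycCov.lpow L U e n) := by
  rw [lpow_eq_powElt]; exact AmpleX.isFrame_powElt he n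

theorem res_lpow {U V : X.Opens} (h : V ≤ U) (e : Γ(L, U)) (n : ℕ) :
    AModX.res (CohB1.tensorPow L n) h (CycCov.lpow L U e n) = CycCov.lpow L V (AModX.res L h e) n := by
  rw [lpow_eq_powElt, lpow_eq_powElt]; exact AmpleX.res_powElt h e n

theorem lpow_smul (U : X.Opens) (b : Γ(X, U)) (e : Γ(L, U)) (n : ℕ) :
    CycCov.lpow L U (b • e) n = b ^ n • CycCov.lpow L U e n := by
  rw [lpow_eq_powElt, lpow_eq_powElt]; exact AmpleX.powElt_smul b e n

/-- The equation of a section in a frame. -/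
theorem exists_coeff {U : X.Opens} {e : Γ(L, U)} (he : InvX.IsFrame e) {N : ℕ}
    (s : Coh.structureModule X ⟶ CohB1.tensorPow L N) :
    ∃ f : Γ(X, U), SecTwist.val s U = f • CycCov.lpow L U e N :=
  ((isGen_of_isFrame (isFrame_lpow he N)).2 (SecTwist.val s U)).imp fun _ h => h.symm

/-- The equation of the divisor of zeros. -/
theorem span_coeff_eq {U : X.affineOpens} {e : Γ(L, U.1)} (he : InvX.IsFrame e) {N : ℕ}
    {s : Coh.structureModule X ⟶ CohB1.tensorPow L N} {I : X.IdealSheafData}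
    (hs : CycCov.IsZeroDiv (CohB1.tensorPow L N) s I) {f : Γ(X, U.1)}
    (hf : SecTwist.val s U.1 = f • CycCov.lpow L U.1 e N) : Ideal.span {f} = I.ideal U := by
  set ε := CycCov.lpow L U.1 e N
  let φ : Γ(X, U.1) ≃ₗ[Γ(X, U.1)] (CohB1.tensorPow L N).val.obj (op U.1) :=
    LinearEquiv.ofBijective (LinearMap.toSpanSingleton _ _ ε) (isGen_of_isFrame (isFrame_lpow he N))
  have h := hs U
  rw [hf] at h
  refine Submodule.map_injective_of_injective (f := φ.toLinearMap) φ.injective ?_
  rw [← Ideal.submodule_span_eq, Submodule.map_span, Set.image_singleton]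
  refine h.trans ?_
  have h2 : (I.ideal U : Submodule Γ(X, U.1) Γ(X, U.1)) = I.ideal U • ⊤ := by
    rw [Ideal.smul_eq_mul, Ideal.mul_top]
  conv_rhs => rw [h2, Submodule.map_smul'', Submodule.map_top, LinearMap.range_eq_top.2 φ.surjective]

end Groth.Agent.CycCovGeo
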