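import Mathlib.RingTheory.AdjoinRoot
import Mathlib.RingTheory.IntegralClosure.IntegrallyClosed
import Mathlib.RingTheory.IntegralClosure.IsIntegralClosure.Basic
import Mathlib.RingTheory.Localization.Away.Basic
import Mathlib.RingTheory.RootsOfUnity.PrimitiveRoots
import Mathlib.RingTheory.Polynomial.ScaleRoots
import Mathlib.LinearAlgebra.Basis.Basic
import Mathlib.Tactic

/-!
# The normalisation of `B[t]/(t^N - u ∏ g_j^{α_j})` is `⊕ B e_i` with `∏ g_j^{⌊iα_j/N⌋} e_i = t^i`
-/

universe u v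

open Polynomial

namespace Groth.Agent.CycCovGeo

variable {B : Type u} [CommRing B] {ι : Type v}

/-- A family of equations of reduced divisors without common component. -/
structure Branches (g : ι → B) : Prop where
  ne_zero : ∀ j, g j ≠ 0
  radical : ∀ j c (n : ℕ), g j ∣ c ^ n → g j ∣ c
  regular : ∀ j l c, j ≠ l → g j ∣ g l * c → g j ∣ c

namespace Branches

variable {g : ι → B}

theorem dvd_of_dvd_pow_mul (hg : Branches g) {j l : ι} (h : j ≠ l) (n : ℕ) (c : B)
    (hd : g j ∣ g l ^ n * c) : g j ∣ c := by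
  induction n generalizing c with
  | zero => simpa using hd
  | succ n ih => exact hg.regular j l c h (ih _ (by rwa [← mul_assoc, ← pow_succ]))

theorem dvd_of_dvd_prod_mul (hg : Branches g) {j : ι} (s : Finset ι) (hj : j ∉ s) (n : ι → ℕ) (c : B)
    (hd : g j ∣ (∏ l ∈ s, g l ^ n l) * c) : g j ∣ c := by
  classical
  induction s using Finset.induction_on generalizing c with
  | empty => simpa using hd
  | insert a s ha ih =>
    rw [Finset.mem_insert, not_or] at hj
    rw [Finset.prod_insert ha, mul_assoc] at hd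
    exact ih hj.2 _ (hg.dvd_of_dvd_pow_mul hj.1 _ _ hd)

theorem prod_dvd [IsDomain B] (hg : Branches g) (s : Finset ι) (c : B) (h : ∀ j ∈ s, g j ∣ c) :
    ∏ j ∈ s, g j ∣ c := by
  classical
  induction s using Finset.induction_on generalizing c with
  | empty => simp
  | insert a s ha ih =>
    obtain ⟨d, rfl⟩ := h a (Finset.mem_insert_self a s)
    rw [Finset.prod_insert ha]
    refine mul_dvd_mul_left _ (ih d fun j hj => ?_)
    exact hg.regular j a d (fun e => ha (e ▸ hj)) (h j (Finset.mem_insert_of_mem hj))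

theorem dvd_of_pow_dvd [IsDomain B] [IsIntegrallyClosed B] [Fintype ι] (hg : Branches g) {N : ℕ} (hN : 0 < N)
    {h p : B} (hh : h ≠ 0) {e : ι → ℕ} (he : ∀ j, e j < N) (hd : h ^ N ∣ p ^ N * ∏ j, g j ^ e j) : h ∣ p := by
  classical
  have hd' : h ^ N ∣ (p * ∏ j, g j) ^ N := by
    refine hd.trans ?_
    rw [mul_pow, ← Finset.prod_pow]
    exact mul_dvd_mul_left _ (Finset.prod_dvd_prod_of_dvd _ _ fun j _ => pow_dvd_pow _ (he j).le)
  obtain ⟨c, hc⟩ := (IsIntegrallyClosed.pow_dvd_pow_iff hN.ne').1 hd'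
  obtain ⟨q, hq⟩ := hd
  have hcq : c ^ N * ∏ j, g j ^ e j = q * ∏ j, g j ^ N := by
    refine mul_left_cancel₀ (pow_ne_zero N hh) ?_
    rw [← mul_assoc, ← mul_pow, ← hc, mul_pow, mul_right_comm, hq, Finset.prod_pow]
    ring
  have hgc : ∀ j, g j ∣ c := by
    intro j
    rw [← Finset.mul_prod_erase _ _ (Finset.mem_univ j), ← Finset.mul_prod_erase _ _ (Finset.mem_univ j)] at hcq
    have h2 : c ^ N * ∏ l ∈ Finset.univ.erase j, g l ^ e l =
        q * (g j ^ (N - e j) * ∏ l ∈ Finset.univ.erase j, g l ^ N) := by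
      refine mul_left_cancel₀ (pow_ne_zero (e j) (hg.ne_zero j)) ?_
      have hNe : g j ^ e j * g j ^ (N - e j) = g j ^ N := by
        rw [← pow_add, Nat.add_sub_cancel' (he j).le]
      calc g j ^ e j * (c ^ N * ∏ l ∈ Finset.univ.erase j, g l ^ e l)
          = c ^ N * (g j ^ e j * ∏ l ∈ Finset.univ.erase j, g l ^ e l) := by ring
        _ = _ := by rw [hcq, ← hNe]; ring
    refine hg.radical j c N (hg.dvd_of_dvd_prod_mul (Finset.univ.erase j) (Finset.notMem_erase j _) e _ ?_)
    rw [mul_comm, h2]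
    exact dvd_mul_of_dvd_right (dvd_mul_of_dvd_left (dvd_pow_self _ (Nat.sub_pos_of_lt (he j)).ne') _) _
  obtain ⟨d, hd2⟩ := hg.prod_dvd Finset.univ c fun j _ => hgc j
  have hp0 : (∏ j, g j) ≠ 0 := Finset.prod_ne_zero_iff.2 fun j _ => hg.ne_zero j
  exact ⟨d, mul_right_cancel₀ hp0 (by rw [hc, hd2]; ring)⟩

end Branches

section Averaging

variable [IsDomain B] {N : ℕ}

theorem sum_root_pow {ζ : B} (hζ : IsPrimitiveRoot ζ N) (m : ℕ) :
    ∑ l ∈ Finset.range N, (ζ ^ m) ^ l = if N ∣ m then (N : B) else 0 := by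
  split_ifs with h
  · rw [hζ.pow_eq_one_iff_dvd _ |>.2 h]; simp
  · have h1 : ζ ^ m ≠ 1 := fun e => h ((hζ.pow_eq_one_iff_dvd _).1 e)
    have h2 := mul_geom_sum (ζ ^ m) N
    rw [← pow_mul, mul_comm m N, pow_mul, hζ.pow_eq_one, one_pow, sub_self, mul_eq_zero] at h2
    exact h2.resolve_left (sub_ne_zero.2 h1)

/-- The graded pieces of an integral element of `B[T]/(T^N - f)` inverted at `h` are integral. -/
theorem pow_dvd_of_integral [IsIntegrallyClosed B] {ζ : B} (hN : 0 < N) (hζ : IsPrimitiveRoot ζ N)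
    (hNB : IsUnit (N : B)) (f h : B) (hh : h ≠ 0) (b : Fin N → B) (Q : B[X]) (hQ : Q.Monic)
    (hy : aeval (∑ i : Fin N, b i • AdjoinRoot.root (X ^ N - C f) ^ (i : ℕ)) (scaleRoots Q h) = 0)
    (i : Fin N) : h ^ N ∣ b i ^ N * f ^ (i : ℕ) := by
  classical
  let A := AdjoinRoot (X ^ N - C f)
  set T : A := AdjoinRoot.root (X ^ N - C f) with hT
  have hmonic : (X ^ N - C f).Monic := monic_X_pow_sub_C f hN.ne'
  haveI : Module.Free B A := hmonic.free_adjoinRoot
  have hTN : T ^ N = algebraMap B A f := by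
    have := AdjoinRoot.eval₂_root (X ^ N - C f)
    rwa [eval₂_sub, eval₂_X_pow, eval₂_C, sub_eq_zero] at this
  let L := Localization.Away (algebraMap B A h)
  have hAL : Function.Injective (algebraMap A L) := by
    refine IsLocalization.injective L (M := Submonoid.powers (algebraMap B A h))
      (Submonoid.powers_le.2 (mem_nonZeroDivisors_iff_right.2 fun y hy' => ?_))
    rw [mul_comm, ← Algebra.smul_def] at hy'
    exact (smul_eq_zero.1 hy').resolve_left hh
  have hu : IsUnit (algebraMap B L h) := by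
    rw [IsScalarTower.algebraMap_apply B A L]
    exact IsLocalization.Away.algebraMap_isUnit _
  obtain ⟨U, hU⟩ := hu
  set τ : L := algebraMap A L T with hτ
  have hτN : τ ^ N = algebraMap B L f := by
    rw [hτ, ← map_pow, hTN, ← IsScalarTower.algebraMap_apply]
  let σ : ℕ → (A →ₐ[B] L) := fun l => AdjoinRoot.liftAlgHom _ (Algebra.ofId B L) (algebraMap B L (ζ ^ l) * τ) (by
    rw [eval₂_sub, eval₂_X_pow, eval₂_C, sub_eq_zero, mul_pow, ← map_pow, ← pow_mul, mul_comm l N, pow_mul,
      hζ.pow_eq_one, one_pow, map_one, one_mul, hτN]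
    rfl)
  have hσT : ∀ l, σ l T = algebraMap B L (ζ ^ l) * τ := fun l => AdjoinRoot.liftAlgHom_root _ _ _ _
  set y : A := ∑ i : Fin N, b i • T ^ (i : ℕ) with hy'
  have hint : ∀ l, IsIntegral B ((↑U⁻¹ : L) * σ l y) := by
    intro l
    refine ⟨Q, hQ, ?_⟩
    have h1 : aeval (σ l y) (scaleRoots Q h) = 0 := by rw [aeval_algHom_apply, hy, map_zero]
    have h2 : σ l y = algebraMap B L h * ((↑U⁻¹ : L) * σ l y) := by
      rw [← mul_assoc, ← hU, Units.mul_inv, one_mul]
    rw [h2, aeval_def, scaleRoots_eval₂_mul] at h1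
    exact (IsUnit.mul_right_eq_zero ((hU ▸ U.isUnit).pow _)).1 h1
  have hkey : ∑ l ∈ Finset.range N, algebraMap B L ((ζ ^ (N - (i : ℕ))) ^ l) * σ l y =
      algebraMap B L ((N : B) * b i) * τ ^ (i : ℕ) := by
    have e1 : ∀ l, σ l y = ∑ a : Fin N, algebraMap B L (b a * (ζ ^ l) ^ (a : ℕ)) * τ ^ (a : ℕ) := fun l => by
      rw [hy', map_sum]
      exact Finset.sum_congr rfl fun a _ => by
        rw [map_smul, map_pow, hσT, mul_pow, Algebra.smul_def, ← map_pow (algebraMap B L), map_mul, mul_assoc]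
    simp only [e1, Finset.mul_sum]
    rw [Finset.sum_comm, Finset.sum_eq_single i]
    · have hS := sum_root_pow hζ (N - (i : ℕ) + i)
      rw [if_pos ⟨1, by have := i.isLt; omega⟩] at hS
      rw [← hS]
      rw [Finset.sum_mul, map_sum, Finset.sum_mul]
      refine Finset.sum_congr rfl fun l _ => ?_
      rw [← mul_assoc, ← map_mul]
      congr 2
      ring
    · intro a _ ha
      have hnd : ¬ N ∣ (N - (i : ℕ) + a) := by
        rintro ⟨c, hc⟩
        have := i.isLt; have := a.isLt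
        have : c = 1 := by
          rcases c with _ | _ | c
          · omega
          · rfl
          · exfalso; rw [Nat.mul_succ, Nat.mul_succ] at hc; omega
        subst this
        exact ha (Fin.ext (by omega))
      calc ∑ l ∈ Finset.range N, algebraMap B L ((ζ ^ (N - (i : ℕ))) ^ l) *
            (algebraMap B L (b a * (ζ ^ l) ^ (a : ℕ)) * τ ^ (a : ℕ))
          = algebraMap B L (b a * ∑ l ∈ Finset.range N, (ζ ^ (N - (i : ℕ) + a)) ^ l) * τ ^ (a : ℕ) := by
            rw [Finset.mul_sum, map_sum, Finset.sum_mul]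
            refine Finset.sum_congr rfl fun l _ => ?_
            rw [← mul_assoc, ← map_mul]
            congr 2
            ring
        _ = 0 := by rw [sum_root_pow hζ, if_neg hnd, mul_zero, map_zero, zero_mul]
    · simp
  have hz : IsIntegral B ((↑U⁻¹ : L) * algebraMap B L ((N : B) * b i) * τ ^ (i : ℕ)) := by
    rw [mul_assoc, ← hkey, Finset.mul_sum]
    exact IsIntegral.sum _ fun l _ => by rw [mul_left_comm]; exact isIntegral_algebraMap.mul (hint l)
  have hzN := hz.pow N
  rw [mul_pow, mul_pow, ← pow_mul, mul_comm (i : ℕ) N, pow_mul, hτN, ← map_pow, ← map_pow, mul_assoc,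
    ← map_mul] at hzN
  set a : B := ((N : B) * b i) ^ N * f ^ (i : ℕ) with ha
  obtain ⟨P, hP, hPz⟩ := hzN
  have hBA : Function.Injective (algebraMap B A) :=
    AdjoinRoot.of.injective_of_degree_ne_zero (by rw [degree_X_pow_sub_C hN]; exact_mod_cast hN.ne')
  have hBL : Function.Injective (algebraMap B L) := by
    rw [IsScalarTower.algebraMap_eq B A L]; exact hAL.comp hBA
  have he : algebraMap B L (h ^ N) * ((↑U⁻¹ : L) ^ N * algebraMap B L a) = algebraMap B L a := by
    rw [← mul_assoc, map_pow, ← mul_pow, ← hU, Units.mul_inv, one_pow, one_mul]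
  have h1 : eval₂ (algebraMap B L) (algebraMap B L a) (scaleRoots P (h ^ N)) = 0 := by
    rw [← he, scaleRoots_eval₂_mul, hPz, mul_zero]
  have h2 : eval a (scaleRoots P (h ^ N)) = 0 := hBL (by rw [map_zero, eval, hom_eval₂, RingHom.comp_id, h1])
  have hhK : algebraMap B (FractionRing B) (h ^ N) ≠ 0 := fun e =>
    pow_ne_zero N hh (IsFractionRing.injective B (FractionRing B) (by rw [e, map_zero]))
  have hint2 : IsIntegral B (algebraMap B (FractionRing B) a / algebraMap B (FractionRing B) (h ^ N)) := by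
    refine ⟨P, hP, ?_⟩
    have h3 : eval₂ (algebraMap B (FractionRing B)) (algebraMap B (FractionRing B) (h ^ N) *
        (algebraMap B (FractionRing B) a / algebraMap B (FractionRing B) (h ^ N))) (scaleRoots P (h ^ N)) = 0 := by
      rw [mul_div_cancel₀ _ hhK, eval₂_at_apply, h2, map_zero]
    rw [scaleRoots_eval₂_mul] at h3
    exact (mul_eq_zero.1 h3).resolve_left (pow_ne_zero _ hhK)
  obtain ⟨c, hc⟩ := IsIntegrallyClosed.algebraMap_eq_of_integral hint2
  obtain ⟨v, hv⟩ := hNB
  refine ⟨(↑v⁻¹ : B) ^ N * c, ?_⟩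
  have hca : a = h ^ N * c :=
    IsFractionRing.injective B (FractionRing B) (by rw [map_mul (algebraMap B (FractionRing B)) (h ^ N) c, hc, mul_div_cancel₀ _ hhK])
  calc b i ^ N * f ^ (i : ℕ) = (↑v⁻¹ * (N : B)) ^ N * (b i ^ N * f ^ (i : ℕ)) := by
        rw [← hv, Units.inv_mul, one_pow, one_mul]
    _ = (↑v⁻¹ : B) ^ N * a := by rw [ha]; ring
    _ = _ := by rw [hca]; ring

end Averaging

end Groth.Agent.CycCovGeo
namespace Groth.Agent.CycCovGeo

section Structure

variable {B : Type u} [CommRing B] {R : Type*} [CommRing R] [Algebra B R] {ι : Type v} [Fintype ι]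
  {N : ℕ} {g : ι → B} {α : ι → ℕ} {c₀ : B} {t : R}

/-- The product `∏ g_j^{⌊aα_j/N⌋}`. -/
noncomputable def flProd (g : ι → B) (α : ι → ℕ) (N a : ℕ) : B := ∏ j, g j ^ (a * α j / N)

/-- An algebra which behaves as the normalised cyclic cover of `f = u ∏ g_j^{α_j}`. -/
structure CoverAlg (g : ι → B) (α : ι → ℕ) (u : Bˣ) (N : ℕ) (t : R) : Prop where
  pow : t ^ N = algebraMap B R ((u : B) * ∏ j, g j ^ α j)
  torsionFree : ∀ b : B, b ≠ 0 → ∀ x : R, b • x = 0 → x = 0
  indep : LinearIndependent B (fun i : Fin N => t ^ (i : ℕ))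
  span : ∀ x : R, ∃ h : B, h ≠ 0 ∧ h • x ∈ Submodule.span B (Set.range fun i : Fin N => t ^ (i : ℕ))
  integral : ∀ x : R, IsIntegral B x
  root : ∀ (b c : B) (y : R), b ≠ 0 → y ^ N = algebraMap B R (b ^ N * c) → ∃ z : R, b • z = y

variable {u : Bˣ}

theorem flProd_ne_zero [IsDomain B] (hg : Branches g) (a : ℕ) : flProd g α N a ≠ 0 :=
  Finset.prod_ne_zero_iff.2 fun j _ => pow_ne_zero _ (hg.ne_zero j)

theorem flProd_pow_mul (a : ℕ) :
    flProd g α N a ^ N * ∏ j, g j ^ (a * α j % N) = ∏ j, g j ^ (a * α j) := by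
  rw [flProd, ← Finset.prod_pow, ← Finset.prod_mul_distrib]
  refine Finset.prod_congr rfl fun j _ => ?_
  rw [← pow_mul, ← pow_add, mul_comm (a * α j / N) N, Nat.div_add_mod]

theorem prod_pow_mul (a : ℕ) : (∏ j, g j ^ α j) ^ a = ∏ j, g j ^ (a * α j) := by
  rw [← Finset.prod_pow]
  exact Finset.prod_congr rfl fun j _ => by rw [← pow_mul, mul_comm]

variable [IsDomain B]

theorem CoverAlg.exists_gen (H : CoverAlg g α u N t) (hg : Branches g) (a : ℕ) :
    ∃ z : R, flProd g α N a • z = t ^ a := by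
  refine H.root _ ((u : B) ^ a * ∏ j, g j ^ (a * α j % N)) _ (flProd_ne_zero hg a) ?_
  rw [← pow_mul, mul_comm a N, pow_mul, H.pow, ← map_pow, mul_pow, prod_pow_mul, ← flProd_pow_mul (N := N) a]
  congr 1
  ring

/-- The element `t^a / ∏ g_j^{⌊aα_j/N⌋}`. -/
noncomputable def CoverAlg.gen (H : CoverAlg g α u N t) (hg : Branches g) (a : ℕ) : R :=
  (H.exists_gen hg a).choose

theorem CoverAlg.flProd_smul_gen (H : CoverAlg g α u N t) (hg : Branches g) (a : ℕ) :
    flProd g α N a • H.gen hg a = t ^ a := (H.exists_gen hg a).choose_spec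

theorem CoverAlg.smul_cancel (H : CoverAlg g α u N t) {b : B} (hb : b ≠ 0) {x y : R} (h : b • x = b • y) :
    x = y :=
  sub_eq_zero.1 (H.torsionFree b hb _ (by rw [smul_sub, h, sub_self]))

theorem CoverAlg.eq_gen (H : CoverAlg g α u N t) (hg : Branches g) {a : ℕ} {z : R}
    (hz : flProd g α N a • z = t ^ a) : z = H.gen hg a :=
  H.smul_cancel (flProd_ne_zero hg a) (by rw [hz, H.flProd_smul_gen])

theorem CoverAlg.gen_zero (H : CoverAlg g α u N t) (hg : Branches g) : H.gen hg 0 = 1 :=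
  (H.eq_gen hg (by simp [flProd])).symm

theorem CoverAlg.gen_mul (H : CoverAlg g α u N t) (hg : Branches g) (a b : ℕ) :
    H.gen hg a * H.gen hg b =
      (∏ j, g j ^ ((a + b) * α j / N - (a * α j / N + b * α j / N))) • H.gen hg (a + b) := by
  refine H.smul_cancel (b := flProd g α N a * flProd g α N b) (mul_ne_zero (flProd_ne_zero hg a) (flProd_ne_zero hg b)) ?_
  rw [← smul_mul_smul_comm, H.flProd_smul_gen, H.flProd_smul_gen, ← pow_add, ← H.flProd_smul_gen hg (a + b), smul_smul]
  congr 1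
  rw [flProd, flProd, flProd, ← Finset.prod_mul_distrib, ← Finset.prod_mul_distrib]
  refine Finset.prod_congr rfl fun j _ => ?_
  rw [← pow_add, ← pow_add, Nat.add_sub_cancel']
  rw [add_mul]
  exact Nat.add_div_le_add_div _ _ _

theorem CoverAlg.gen_add_self (H : CoverAlg g α u N t) (hg : Branches g) (hN : 0 < N) (a : ℕ) :
    H.gen hg (a + N) = (u : B) • H.gen hg a := by
  refine (H.eq_gen hg ?_).symm
  rw [pow_add, H.pow, mul_comm, ← Algebra.smul_def, ← H.flProd_smul_gen hg a, smul_smul, smul_smul]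
  congr 1
  rw [flProd, flProd, mul_comm _ (u : B), mul_assoc, ← Finset.prod_mul_distrib]
  congr 1
  refine Finset.prod_congr rfl fun j _ => ?_
  rw [← pow_add, add_mul, Nat.add_mul_div_left _ _ hN, add_comm]

theorem CoverAlg.span_gen [IsIntegrallyClosed B] (H : CoverAlg g α u N t) (hg : Branches g) (hN : 0 < N)
    (hNB : IsUnit (N : B)) {ζ : B} (hζ : IsPrimitiveRoot ζ N) :
    Submodule.span B (Set.range fun i : Fin N => H.gen hg i) = ⊤ := by
  classical
  refine eq_top_iff.2 fun x _ => ?_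
  set f : B := (u : B) * ∏ j, g j ^ α j with hf
  obtain ⟨h, hh, hx⟩ := H.span x
  obtain ⟨b, hb⟩ := (Submodule.mem_span_range_iff_exists_fun B).1 hx
  obtain ⟨Q, hQ, hQx⟩ := H.integral x
  let φ : AdjoinRoot (X ^ N - C f) →ₐ[B] R := AdjoinRoot.liftAlgHom _ (Algebra.ofId B R) t (by
    rw [eval₂_sub, eval₂_X_pow, eval₂_C, sub_eq_zero]; exact H.pow)
  have hφT : ∀ n : ℕ, φ (AdjoinRoot.root (X ^ N - C f) ^ n) = t ^ n := fun n => by
    rw [map_pow]; exact congrArg (· ^ n) (AdjoinRoot.liftAlgHom_root _ _ _ _)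
  have hdeg : (X ^ N - C f).natDegree = N := natDegree_X_pow_sub_C
  have hmonic : (X ^ N - C f).Monic := monic_X_pow_sub_C f hN.ne'
  have hφinj : Function.Injective φ := by
    refine (injective_iff_map_eq_zero φ).2 fun z hz => ?_
    let pb := AdjoinRoot.powerBasis' hmonic
    rw [← pb.basis.sum_repr z, map_sum] at hz
    have hdim : pb.dim = N := hdeg
    have h0 := Fintype.linearIndependent_iff.1 H.indep (fun i => pb.basis.repr z (i.cast hdim.symm)) (by
      rw [← hz]
      refine Fintype.sum_equiv (finCongr hdim.symm) _ _ fun i => ?_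
      rw [map_smul, pb.basis_eq_pow, show pb.gen = AdjoinRoot.root _ from rfl, hφT]
      rfl)
    refine pb.basis.repr.map_eq_zero_iff.1 (Finsupp.ext fun i => ?_)
    have := h0 (i.cast hdim)
    simpa using this
  have hy : aeval (∑ i : Fin N, b i • AdjoinRoot.root (X ^ N - C f) ^ (i : ℕ)) (scaleRoots Q h) = 0 := by
    apply hφinj
    rw [map_zero, ← aeval_algHom_apply, map_sum]
    simp only [map_smul, hφT]
    rw [hb, Algebra.smul_def, aeval_def, scaleRoots_eval₂_mul, hQx, mul_zero]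
  have hd : ∀ i : Fin N, h ∣ b i * flProd g α N i := fun i => by
    refine hg.dvd_of_pow_dvd hN hh (e := fun j => (i : ℕ) * α j % N) (fun j => Nat.mod_lt _ hN) ?_
    have h1 := pow_dvd_of_integral hN hζ hNB f h hh b Q hQ hy i
    rw [mul_pow, mul_assoc, flProd_pow_mul]
    rw [hf, mul_pow, prod_pow_mul, mul_left_comm] at h1
    exact ((u.isUnit.pow (i : ℕ)).dvd_mul_left).1 h1
  choose d hd using hd
  refine (Submodule.mem_span_range_iff_exists_fun B).2 ⟨d, H.smul_cancel hh ?_⟩
  rw [← hb, Finset.smul_sum]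
  exact Finset.sum_congr rfl fun i _ => by
    rw [smul_smul, ← hd i, ← smul_smul, H.flProd_smul_gen]

theorem CoverAlg.linearIndependent_gen (H : CoverAlg g α u N t) (hg : Branches g) :
    LinearIndependent B (fun i : Fin N => H.gen hg i) := by
  classical
  refine Fintype.linearIndependent_iff.2 fun c hc => ?_
  set P : B := ∏ i : Fin N, flProd g α N (i : ℕ) with hP
  have h1 : ∀ i : Fin N, P • (c i • H.gen hg i) = (c i * ∏ l ∈ Finset.univ.erase i, flProd g α N (l : ℕ)) • t ^ (i : ℕ) := fun i => by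
    rw [hP, ← Finset.mul_prod_erase _ _ (Finset.mem_univ i), ← H.flProd_smul_gen hg i, smul_smul, smul_smul]
    congr 1
    ring
  have h2 := Fintype.linearIndependent_iff.1 H.indep _ (by
    rw [← Finset.sum_congr rfl fun i _ => h1 i, ← Finset.smul_sum, hc, smul_zero])
  exact fun i => (mul_eq_zero.1 (h2 i)).resolve_right
    (Finset.prod_ne_zero_iff.2 fun l _ => flProd_ne_zero hg _)

/-- The basis of a normalised cyclic cover. -/
noncomputable def CoverAlg.basis [IsIntegrallyClosed B] (H : CoverAlg g α u N t) (hg : Branches g)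
    (hN : 0 < N) (hNB : IsUnit (N : B)) {ζ : B} (hζ : IsPrimitiveRoot ζ N) : Module.Basis (Fin N) B R :=
  Module.Basis.mk (H.linearIndependent_gen hg) (H.span_gen hg hN hNB hζ).ge

theorem CoverAlg.basis_apply [IsIntegrallyClosed B] (H : CoverAlg g α u N t) (hg : Branches g)
    (hN : 0 < N) (hNB : IsUnit (N : B)) {ζ : B} (hζ : IsPrimitiveRoot ζ N) (i : Fin N) :
    H.basis hg hN hNB hζ i = H.gen hg i :=
  Module.Basis.mk_apply _ _ i

end Structure

end Groth.Agent.CycCovGeo
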