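import Groth.Agent.CycCovGeo.Chart
import Groth.Agent.CycCovGeo.Frames
import Groth.Agent.CycCovGeo.Normalization
import Groth.Agent.GrpSchLib.SmoothRegular
import Groth.Agent.RegLoc6.Normal
import Mathlib.RingTheory.LocalProperties.IntegrallyClosed
import Mathlib.RingTheory.RootsOfUnity.AlgebraicallyClosed

/-!
# Affine charts of a normal crossing divisor on an integral smooth scheme
-/

universe u

open CategoryTheory AlgebraicGeometry Opposite TopologicalSpace MvPolynomial

namespace Groth.Agent.CycCovGeo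

variable {k : Type u} [Field k] {X : Scheme.{u}}

theorem isIntegrallyClosed_sections [IsIntegral X] (f : X ⟶ Spec (CommRingCat.of k)) [Smooth f]
    {U : X.Opens} (hU : IsAffineOpen U) [Nonempty U] : IsIntegrallyClosed Γ(X, U) := by
  refine IsIntegrallyClosed.of_localization_maximal fun P _ hP => ?_
  have hy : hU.fromSpec ⟨P, hP.isPrime⟩ ∈ U := hU.range_fromSpec.le ⟨_, rfl⟩
  let : Algebra Γ(X, U) (X.presheaf.stalk (hU.fromSpec ⟨P, hP.isPrime⟩)) :=
    X.presheaf.algebra_section_stalk ⟨hU.fromSpec ⟨P, hP.isPrime⟩, hy⟩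
  have : IsLocalization.AtPrime (X.presheaf.stalk (hU.fromSpec ⟨P, hP.isPrime⟩)) P :=
    hU.isLocalization_stalk' ⟨P, hP.isPrime⟩ hy
  have := GrpSchLib.isRegularLocalRing_stalk_of_smooth f (hU.fromSpec ⟨P, hP.isPrime⟩)
  have := RegLoc6.isIntegrallyClosed_of_isRegularLocalRing (X.presheaf.stalk (hU.fromSpec ⟨P, hP.isPrime⟩))
  exact IsIntegrallyClosed.of_equiv (IsLocalization.algEquiv P.primeCompl
    (X.presheaf.stalk (hU.fromSpec ⟨P, hP.isPrime⟩)) (Localization.AtPrime P)).toRingEquiv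

theorem scal_injective (f : X ⟶ Spec (CommRingCat.of k)) (U : X.Opens) [Nontrivial Γ(X, U)] :
    Function.Injective (scal f U) :=
  RingHom.injective _

theorem exists_primitiveRoot [IsAlgClosed k] (f : X ⟶ Spec (CommRingCat.of k)) (U : X.Opens)
    [Nontrivial Γ(X, U)] {N : ℕ} (hNk : (N : k) ≠ 0) : ∃ ζ : Γ(X, U), IsPrimitiveRoot ζ N := by
  have : NeZero (N : k) := ⟨hNk⟩
  obtain ⟨ζ, hζ⟩ := HasEnoughRootsOfUnity.exists_primitiveRoot k N
  exact ⟨_, hζ.map_of_injective (scal_injective f U)⟩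

theorem isUnit_natCast (f : X ⟶ Spec (CommRingCat.of k)) (U : X.Opens) {N : ℕ} (hNk : (N : k) ≠ 0) :
    IsUnit (N : Γ(X, U)) :=
  map_natCast (scal f U) N ▸ (IsUnit.mk0 (N : k) hNk).map (scal f U)

section Nice

variable (f : X ⟶ Spec (CommRingCat.of k)) {r : ℕ} (D : Fin r → X.IdealSheafData)

/-- An affine open with equations of the components through `x`, the coordinates of an etale chart. -/
structure Nice (x : X) (U : X.affineOpens) (g : Fin r → Γ(X, U.1)) : Prop where
  mem : x ∈ U.1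
  ideal : ∀ j, (D j).ideal U = Ideal.span {g j}
  miss : ∀ j, x ∉ (D j).support → g j = 1
  branches : Branches g
  coords : Nonempty (LogNCD.Through D x) →
    ∃ (n : ℕ) (v : ULift.{u} (Fin n) → Γ(X, U.1)) (idx : LogNCD.Through D x → ULift.{u} (Fin n)),
      Function.Injective idx ∧ (eval₂Hom (scal f U.1) v).Etale ∧ ∀ j, g j.1 = v (idx j)

variable {f D}

theorem exists_affine_le (V : X.Opens) {x : X} (hx : x ∈ V) : ∃ U : X.affineOpens, x ∈ U.1 ∧ U.1 ≤ V := by
  obtain ⟨_, ⟨U, hU, rfl⟩, hxU, hle⟩ := X.isBasis_affineOpens.exists_subset_of_mem_open (show x ∈ V from hx) V.2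
  exact ⟨⟨U, hU⟩, hxU, hle⟩

theorem branches_coord [IsIntegral X] {U : X.Opens} [Nonempty U] {ι : Type u} (v : ι → Γ(X, U))
    (hv : (eval₂Hom (scal f U) v).Etale) {κ : Type} (g : κ → Γ(X, U)) (p : κ → Option ι)
    (hp : ∀ a b i, p a = some i → p b = some i → a = b) (hg : ∀ a, g a = (p a).elim 1 v) :
    Branches g := by
  let : Algebra (MvPolynomial ι k) Γ(X, U) := (eval₂Hom (scal f U) v).toAlgebra
  have : Algebra.Etale (MvPolynomial ι k) Γ(X, U) := hv
  have halg : ∀ i, algebraMap (MvPolynomial ι k) Γ(X, U) (MvPolynomial.X i) = v i := fun i =>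
    eval₂Hom_X' _ _ _
  have hreg : ∀ (S : Set ι) l, l ∉ S → ∀ c, v l * c ∈ Ideal.span (v '' S) → c ∈ Ideal.span (v '' S) :=
    fun S l hl c hc => by
      have := mem_span_of_mul_mem (k := k) (C := Γ(X, U)) S hl (c := c)
      simp only [halg] at this
      exact this hc
  refine ⟨fun a => ?_, fun a c n hd => ?_, fun a b c hab hd => ?_⟩
  · rw [hg]
    rcases p a with _ | i
    · exact one_ne_zero
    · intro h0
      have h0' : v i = 0 := h0
      have h1 := hreg ∅ i (Set.notMem_empty _) 1 (by rw [h0', zero_mul]; exact zero_mem _)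
      rw [Set.image_empty, Ideal.span_empty, Ideal.mem_bot] at h1
      exact one_ne_zero h1
  · rw [hg] at hd ⊢
    rcases hpa : p a with _ | i
    · exact one_dvd c
    · rw [hpa] at hd
      have := isReduced_quot (k := k) (C := Γ(X, U)) ({i} : Set ι)
      rw [Set.image_singleton] at this
      rw [halg i] at this
      show v i ∣ c
      rw [← Ideal.mem_span_singleton, ← Ideal.Quotient.eq_zero_iff_mem]
      refine IsReduced.eq_zero _ ⟨n, ?_⟩
      rw [← map_pow, Ideal.Quotient.eq_zero_iff_mem, Ideal.mem_span_singleton]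
      exact hd
  · rw [hg] at hd ⊢
    rcases hpa : p a with _ | i
    · exact one_dvd c
    · rw [hpa] at hd
      rw [hg] at hd
      rcases hpb : p b with _ | l
      · rw [hpb] at hd; simpa using hd
      · rw [hpb] at hd
        have hil : l ≠ i := fun e => hab (hp a b i hpa (e ▸ hpb))
        have h1 := hreg {i} l hil c (by rw [Set.image_singleton]; exact Ideal.mem_span_singleton.2 hd)
        rw [Set.image_singleton] at h1
        exact Ideal.mem_span_singleton.1 h1

theorem exists_nice [IsIntegral X] (hD : LogNCD.IsNCD D f) (x : X) (V : X.Opens) (hx : x ∈ V) :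
    ∃ (U : X.affineOpens) (g : Fin r → Γ(X, U.1)), U.1 ≤ V ∧ Nice f D x U g := by
  classical
  by_cases hT : Nonempty (LogNCD.Through D x)
  · obtain ⟨W, hxW, n, v, e, he, het, hin, hout⟩ := hD x hT
    obtain ⟨U, hxU, hle⟩ := exists_affine_le (V ⊓ W) (x := x) ⟨hx, hxW⟩
    have : Nonempty U.1 := ⟨⟨x, hxU⟩⟩
    have hUW : U.1 ≤ W := hle.trans inf_le_right
    let v' : ULift.{u} (Fin n) → Γ(X, U.1) := fun i => LogNCD.sectOn W hUW (v i)
    let p : Fin r → Option (ULift.{u} (Fin n)) := fun j =>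
      if h : x ∈ (D j).support then some ⟨e ⟨j, h⟩⟩ else none
    have hv : (eval₂Hom (scal f U.1) v').Etale := etale_coordHom f W v het U hUW
    refine ⟨U, fun j => (p j).elim 1 v', hle.trans inf_le_left, hxU, fun j => ?_, fun j hj => ?_, ?_, fun _ => ?_⟩
    · by_cases h : x ∈ (D j).support
      · simp only [p, dif_pos h, Option.elim_some]
        exact hin ⟨j, h⟩ U hUW
      · simp only [p, dif_neg h, Option.elim_none, Ideal.span_singleton_one]
        exact hout j h U hUW
    · simp only [p, dif_neg hj, Option.elim_none]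
    · refine branches_coord v' hv _ p (fun a b i ha hb => ?_) fun _ => rfl
      by_cases h : x ∈ (D a).support <;> by_cases h' : x ∈ (D b).support <;>
        simp only [p, dif_pos, dif_neg, h, h', not_false_eq_true, reduceCtorEq, Option.some.injEq] at ha hb
      exact congrArg Subtype.val (he (congrArg ULift.down (ha.trans hb.symm)))
    · exact ⟨n, v', fun j => ⟨e j⟩, fun a b h => he (congrArg ULift.down h), hv, fun j => by
        simp only [p, dif_pos j.2, Option.elim_some]; rfl⟩
  · have hout : ∀ j, x ∉ (D j).support := fun j hj => hT ⟨⟨j, hj⟩⟩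
    let O : X.Opens := V ⊓ ⟨⋂ j, ((D j).support : Set X)ᶜ,
      isOpen_iInter_of_finite fun j => (D j).support.isClosed.isOpen_compl⟩
    obtain ⟨U, hxU, hle⟩ := exists_affine_le O (x := x) ⟨hx, Set.mem_iInter.2 hout⟩
    have : Nonempty U.1 := ⟨⟨x, hxU⟩⟩
    refine ⟨U, fun _ => 1, hle.trans inf_le_left, hxU, fun j => ?_, fun _ _ => rfl, ?_, fun h => absurd h hT⟩
    · rw [Ideal.span_singleton_one]
      by_contra hne
      obtain ⟨P, hP, hle'⟩ := Ideal.exists_le_maximal _ hne
      have hy : U.2.fromSpec ⟨P, hP.isPrime⟩ ∈ U.1 := U.2.range_fromSpec.le ⟨_, rfl⟩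
      refine Set.mem_iInter.1 (hle hy).2 j ?_
      have h2 := Set.mem_image_of_mem U.2.fromSpec
        (show (⟨P, hP.isPrime⟩ : PrimeSpectrum _) ∈ PrimeSpectrum.zeroLocus ((D j).ideal U : Set Γ(X, U.1)) from hle')
      rw [U.2.fromSpec_image_zeroLocus] at h2
      rw [SetLike.mem_coe, Scheme.IdealSheafData.mem_support_iff_of_mem (U := U) hy]
      exact h2.1
    · exact ⟨fun _ => one_ne_zero, fun _ c _ _ => one_dvd c, fun _ _ c _ _ => one_dvd c⟩

theorem prod_ideal {κ : Type*} (s : Finset κ) (I : κ → X.IdealSheafData) :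
    (∏ j ∈ s, I j).ideal = ∏ j ∈ s, (I j).ideal := by
  classical
  induction s using Finset.induction_on with
  | empty =>
    simp only [Finset.prod_empty]
    funext U
    exact (congrFun (Scheme.IdealSheafData.ideal_top (X := X)) U).trans Ideal.one_eq_top.symm
  | insert a s ha ih => rw [Finset.prod_insert ha, Finset.prod_insert ha, Scheme.IdealSheafData.ideal_mul, ih]

theorem divIdeal_ideal (α : Fin r → ℕ) (U : X.affineOpens) :
    (CycCov.divIdeal D α).ideal U = ∏ j, (D j).ideal U ^ α j := by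
  simp only [CycCov.divIdeal, prod_ideal, Finset.prod_apply, Scheme.IdealSheafData.ideal_pow, Pi.pow_apply]

/-- The frame and the equation of the section on a nice chart. -/
theorem exists_unit_coeff [IsIntegral X] {L : X.Modules} {N : ℕ} {α : Fin r → ℕ} {x : X} {U : X.affineOpens}
    {g : Fin r → Γ(X, U.1)} (hU : Nice f D x U g) {e : Γ(L, U.1)} (he : InvX.IsFrame e)
    {s : Coh.structureModule X ⟶ CohB1.tensorPow L N}
    (hs : CycCov.IsZeroDiv (CohB1.tensorPow L N) s (CycCov.divIdeal D α)) :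
    ∃ u : Γ(X, U.1)ˣ, SecTwist.val s U.1 = ((u : Γ(X, U.1)) * ∏ j, g j ^ α j) • CycCov.lpow L U.1 e N := by
  have : Nonempty U.1 := ⟨⟨x, hU.mem⟩⟩
  obtain ⟨c, hc⟩ := exists_coeff he s
  have h := span_coeff_eq he hs hc
  simp only [divIdeal_ideal, hU.ideal, Ideal.span_singleton_pow, Ideal.prod_span_singleton] at h
  obtain ⟨u, hu⟩ := (Ideal.span_singleton_eq_span_singleton.1 h.symm)
  exact ⟨u, by rw [hc, ← hu, mul_comm]⟩

theorem exists_frame_nice [IsIntegral X] (hD : LogNCD.IsNCD D f) {L : X.Modules} (hL : PicF.IsInvertible L)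
    (x : X) (V : X.Opens) (hx : x ∈ V) :
    ∃ (U : X.affineOpens) (g : Fin r → Γ(X, U.1)) (e : Γ(L, U.1)),
      U.1 ≤ V ∧ Nice f D x U g ∧ InvX.IsFrame e := by
  obtain ⟨W, hxW, e, he⟩ := InvX.exists_frame hL x
  obtain ⟨U, g, hle, hU⟩ := exists_nice hD x (V ⊓ W) ⟨hx, hxW⟩
  exact ⟨U, g, _, hle.trans inf_le_left, hU, he.res (hle.trans inf_le_right)⟩

end Nice

end Groth.Agent.CycCovGeo
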