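import Groth.Agent.Hensel.EtaleReduced
import Mathlib.RingTheory.Etale.Basic
import Mathlib.RingTheory.Smooth.Flat
import Mathlib.RingTheory.TensorProduct.Quotient
import Mathlib.Algebra.MvPolynomial.Eval
import Mathlib.RingTheory.MvPolynomial.Basic

/-!
# Coordinates of an etale chart

For an etale algebra over a polynomial ring over a domain the coordinates cut out reduced quotients and
form regular sequences two by two.
-/

universe u

namespace Groth.Agent.CycCovGeo

open MvPolynomial TensorProduct

variable {k : Type u} [CommRing k] {ι : Type u}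

theorem span_X_eq_ker (S : Set ι) [DecidablePred (· ∈ S)] :
    Ideal.span (X '' S) = RingHom.ker
      (aeval (fun i => if i ∈ S then (0 : MvPolynomial ι k) else X i) : MvPolynomial ι k →ₐ[k] MvPolynomial ι k) := by
  refine le_antisymm (Ideal.span_le.2 ?_) fun p hp => ?_
  · rintro _ ⟨i, hi, rfl⟩; simp [hi]
  · set θ := (aeval (fun i => if i ∈ S then (0 : MvPolynomial ι k) else X i) : MvPolynomial ι k →ₐ[k] MvPolynomial ι k) with hθ
    suffices h : ∀ q, q - θ q ∈ Ideal.span (X '' S) by
      have := h p; rwa [RingHom.mem_ker.1 hp, sub_zero] at this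
    intro q
    induction q using MvPolynomial.induction_on with
    | C a => simp [hθ]
    | add a b ha hb => rw [map_add, add_sub_add_comm]; exact add_mem ha hb
    | mul_X a i ha =>
      rw [map_mul, hθ, aeval_X, ← hθ]
      split_ifs with hi
      · rw [mul_zero, sub_zero]; exact Ideal.mul_mem_left _ _ (Ideal.subset_span ⟨i, hi, rfl⟩)
      · rw [← sub_mul]; exact Ideal.mul_mem_right _ _ ha

theorem isPrime_span_X [IsDomain k] (S : Set ι) : (Ideal.span (X '' S : Set (MvPolynomial ι k))).IsPrime := by
  classical
  rw [span_X_eq_ker]; exact RingHom.ker_isPrime _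

variable {C : Type u} [CommRing C] [Algebra (MvPolynomial ι k) C] [Algebra.Etale (MvPolynomial ι k) C]

local notation "x" => fun i => algebraMap (MvPolynomial ι k) C (X i)

theorem isReduced_quot [IsDomain k] (S : Set ι) :
    IsReduced (C ⧸ Ideal.span ((x) '' S)) := by
  let P := MvPolynomial ι k
  let I : Ideal P := Ideal.span (X '' S)
  haveI : I.IsPrime := isPrime_span_X S
  haveI : IsReduced ((P ⧸ I) ⊗[P] C) := Hensel.isReduced_of_etale (P ⧸ I) ((P ⧸ I) ⊗[P] C)
  have hI : I.map (algebraMap P C) = Ideal.span ((x) '' S) := by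
    rw [Ideal.map_span, Set.image_image]
  rw [← hI]
  let e := (Algebra.TensorProduct.quotIdealMapEquivTensorQuot C I).toRingEquiv.trans
    (Algebra.TensorProduct.comm P C (P ⧸ I)).toRingEquiv
  exact isReduced_of_injective e.toRingHom e.injective

/-- Distinct coordinates are regular modulo each other. -/
theorem mem_span_of_mul_mem [IsDomain k] (S : Set ι) {l : ι} (hl : l ∉ S) {c : C}
    (h : algebraMap (MvPolynomial ι k) C (X l) * c ∈ Ideal.span ((x) '' S)) :
    c ∈ Ideal.span ((x) '' S) := by
  classical
  let P := MvPolynomial ι k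
  let I : Ideal P := Ideal.span (X '' S)
  haveI : I.IsPrime := isPrime_span_X S
  have hI : I.map (algebraMap P C) = Ideal.span ((x) '' S) := by
    rw [Ideal.map_span, Set.image_image]
  rw [← hI] at h ⊢
  have hne : Ideal.Quotient.mk I (X l) ≠ 0 := fun h0 => by
    have h2 := Ideal.Quotient.eq_zero_iff_mem.1 h0
    simp only [I, P] at h2
    rw [span_X_eq_ker (k := k) S, RingHom.mem_ker] at h2
    rw [aeval_X, if_neg hl] at h2
    exact X_ne_zero l h2
  let f : (P ⧸ I) →ₗ[P] (P ⧸ I) := LinearMap.lsmul P (P ⧸ I) (X l : P)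
  have hf : Function.Injective f := (injective_iff_map_eq_zero f).2 fun y hy => by
    have hy' : Ideal.Quotient.mk I (X l) * y = 0 := by
      obtain ⟨z, rfl⟩ := Ideal.Quotient.mk_surjective y
      exact hy
    exact (mul_eq_zero.1 hy').resolve_left hne
  have hinj := Module.Flat.lTensor_preserves_injective_linearMap (M := C) f hf
  rw [← Ideal.Quotient.eq_zero_iff_mem] at h ⊢
  apply (Algebra.TensorProduct.quotIdealMapEquivTensorQuot C I).injective
  rw [map_zero, Algebra.TensorProduct.quotIdealMapEquivTensorQuot_mk]
  apply hinj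
  rw [map_zero, LinearMap.lTensor_tmul, LinearMap.lsmul_apply, ← TensorProduct.smul_tmul, Algebra.smul_def,
    ← Algebra.TensorProduct.quotIdealMapEquivTensorQuot_mk, h, map_zero]

end Groth.Agent.CycCovGeo
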