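import Groth.Prelude.Def_LogNCD
import Groth.Agent.CycCovGeo.Coord

/-!
# The etale coordinate charts of a normal crossing divisor over an affine base, as ring maps
-/

universe u

open CategoryTheory AlgebraicGeometry Opposite TopologicalSpace MvPolynomial

namespace Groth.Agent.CycCovGeo

variable {R : CommRingCat.{u}} {Xs : Scheme.{u}}

/-- The scalars on an open subset. -/
noncomputable def scal (f : Xs ⟶ Spec R) (U : Xs.Opens) : R →+* Γ(Xs, U) :=
  ((Scheme.ΓSpecIso R).inv ≫ f.appLE ⊤ U le_top).hom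

theorem scal_res (f : Xs ⟶ Spec R) {U V : Xs.Opens} (h : V ≤ U) (c : R) :
    Xs.presheaf.map (homOfLE h).op (scal f U c) = scal f V c := by
  simp only [scal, CommRingCat.hom_comp, RingHom.comp_apply]
  exact congr($(Scheme.Hom.appLE_map f (U := ⊤) (le_top : U ≤ f ⁻¹ᵁ ⊤) (homOfLE h).op) _)

/-- The polynomial map of a family of functions on an open. -/
noncomputable def coordHom (f : Xs ⟶ Spec R) {ι : Type u} (W : Xs.Opens) (v : ι → Γ(W, ⊤)) {U : Xs.Opens}
    (h : U ≤ W) : MvPolynomial ι R →+* Γ(Xs, U) :=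
  eval₂Hom (scal f U) fun i => LogNCD.sectOn W h (v i)

theorem topIso_homOfLE_appTop (W : Xs.Opens) {U : Xs.Opens} (h : U ≤ W) (s : Γ(W, ⊤)) :
    U.topIso.hom ((Xs.homOfLE h).appTop s) = LogNCD.sectOn W h s := by
  rw [LogNCD.sectOn_apply, ← CommRingCat.comp_apply, ← CommRingCat.comp_apply]
  refine DFunLike.congr_fun (congrArg CommRingCat.Hom.hom ?_) s
  simp only [Scheme.Hom.appTop, Scheme.homOfLE_app, Scheme.Opens.topIso_hom, eqToHom_op]
  erw [← Functor.map_comp, ← Functor.map_comp]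
  rfl

theorem coordHom_eq (f : Xs ⟶ Spec R) {ι : Type u} (W : Xs.Opens) (v : ι → Γ(W, ⊤)) {U : Xs.Opens}
    (h : U ≤ W) : coordHom f W v h =
      (((Scheme.ΓSpecIso (.of (MvPolynomial ι R))).inv ≫ (AffineSpace.SpecIso ι R).hom.appTop ≫
        (Xs.homOfLE h ≫ AffineSpace.homOfVector (W.ι ≫ f) v).appTop) ≫ U.topIso.hom).hom := by
  let g : (U : Scheme.{u}) ⟶ 𝔸(ι; Spec R) := Xs.homOfLE h ≫ AffineSpace.homOfVector (W.ι ≫ f) v
  refine MvPolynomial.ringHom_ext (fun c => ?_) fun i => ?_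
  · simp only [coordHom, eval₂Hom_C, CommRingCat.hom_comp, RingHom.comp_apply]
    have e1 : (AffineSpace.SpecIso ι R).hom.appTop ((Scheme.ΓSpecIso (.of (MvPolynomial ι R))).inv (C c)) =
        (𝔸(ι; Spec R) ↘ Spec R).appTop ((Scheme.ΓSpecIso R).inv c) := by simp
    show _ = U.topIso.hom (g.appTop ((AffineSpace.SpecIso ι R).hom.appTop _))
    rw [e1, ← CommRingCat.comp_apply (𝔸(ι; Spec R) ↘ Spec R).appTop g.appTop, ← Scheme.Hom.comp_appTop]
    have e2 : g ≫ (𝔸(ι; Spec R) ↘ Spec R) = U.ι ≫ f := by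
      simp only [g, Category.assoc, AffineSpace.homOfVector_over, Scheme.homOfLE_ι_assoc]
    rw [e2, Scheme.Hom.comp_appTop, CommRingCat.comp_apply, ← CommRingCat.comp_apply U.ι.appTop]
    simp only [scal, CommRingCat.hom_comp, RingHom.comp_apply]
    have e3 : U.ι.appTop ≫ U.topIso.hom = Xs.presheaf.map (homOfLE (le_top : U ≤ ⊤)).op := by
      simp only [Scheme.Opens.ι_appTop, Scheme.Opens.topIso_hom, eqToHom_op]
      erw [← Functor.map_comp]
      rfl
    exact (congr($e3 (f.appTop ((Scheme.ΓSpecIso R).inv c)))).symm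
  · simp only [coordHom, eval₂Hom_X', CommRingCat.hom_comp, RingHom.comp_apply]
    have e1 : (AffineSpace.SpecIso ι R).hom.appTop ((Scheme.ΓSpecIso (.of (MvPolynomial ι R))).inv (MvPolynomial.X i)) =
        AffineSpace.coord (Spec R) i := by simp
    show _ = U.topIso.hom (g.appTop ((AffineSpace.SpecIso ι R).hom.appTop _))
    rw [e1]
    simp only [g, Scheme.Hom.comp_appTop, CommRingCat.comp_apply, AffineSpace.homOfVector_appTop_coord]
    rw [topIso_homOfLE_appTop]

theorem etale_coordHom (f : Xs ⟶ Spec R) {ι : Type u} (W : Xs.Opens) (v : ι → Γ(W, ⊤))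
    (het : Etale (AffineSpace.homOfVector (W.ι ≫ f) v)) (U : Xs.affineOpens) (h : U.1 ≤ W) :
    (coordHom f W v h).Etale := by
  haveI : IsAffine (U.1 : Scheme.{u}) := U.2
  let g : (U.1 : Scheme.{u}) ⟶ 𝔸(ι; Spec R) := Xs.homOfLE h ≫ AffineSpace.homOfVector (W.ι ≫ f) v
  haveI : Etale g := inferInstanceAs (Etale (_ ≫ _))
  have hgt : RingHom.Etale g.appTop.hom := HasRingHomProperty.appTop @Etale g inferInstance
  haveI : IsIso (AffineSpace.SpecIso ι R).hom.appTop :=
    inferInstanceAs (IsIso ((AffineSpace.SpecIso ι R).hom.app ⊤))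
  rw [coordHom_eq, CommRingCat.hom_comp, RingHom.Etale.respectsIso.cancel_right_isIso, CommRingCat.hom_comp,
    RingHom.Etale.respectsIso.cancel_left_isIso, CommRingCat.hom_comp,
    RingHom.Etale.respectsIso.cancel_left_isIso]
  exact hgt

/-- Etale coordinates on an affine open give an etale chart. -/
theorem etale_homOfVector (f : Xs ⟶ Spec R) {ι : Type u} (U : Xs.affineOpens) (v : ι → Γ(U.1, ⊤))
    (h : (coordHom f U.1 v le_rfl).Etale) : Etale (AffineSpace.homOfVector (U.1.ι ≫ f) v) := by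
  haveI : IsAffine (U.1 : Scheme.{u}) := U.2
  haveI : IsIso (AffineSpace.SpecIso ι R).hom.appTop :=
    inferInstanceAs (IsIso ((AffineSpace.SpecIso ι R).hom.app ⊤))
  rw [coordHom_eq, CommRingCat.hom_comp, RingHom.Etale.respectsIso.cancel_right_isIso, CommRingCat.hom_comp,
    RingHom.Etale.respectsIso.cancel_left_isIso, CommRingCat.hom_comp,
    RingHom.Etale.respectsIso.cancel_left_isIso, Scheme.homOfLE_rfl, Category.id_comp] at h
  exact (HasRingHomProperty.iff_of_isAffine (P := @Etale)).2 h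

end Groth.Agent.CycCovGeo
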