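import Groth.Agent.AModX.Res
import Groth.Agent.QCoh.DevissageSum

/-!
# Finite direct sum decompositions of modules checked locally on sections
-/

universe u

open CategoryTheory CategoryTheory.Limits AlgebraicGeometry TopologicalSpace Opposite

namespace Groth.Agent.CycCovGeo

open Groth.Agent.AModX

attribute [local instance] QCoh.hasFiniteBiproducts

variable {X : Scheme.{u}} {n : ℕ} {M : Fin n → X.Modules} {F : X.Modules} (c : ∀ i, M i ⟶ F)

/-- The sum map on sections. -/
noncomputable def sumApp (W : X.Opens) (x : ∀ i, Γ(M i, W)) : Γ(F, W) := ∑ i, (c i).app W (x i)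

theorem res_sumApp {W W' : X.Opens} (h : W' ≤ W) (x : ∀ i, Γ(M i, W)) :
    res F h (sumApp c W x) = sumApp c W' fun i => res (M i) h (x i) := by
  rw [sumApp, map_sum]
  exact Finset.sum_congr rfl fun i _ => (app_res (c i) h (x i)).symm

/-- A finite cofan which is bijective on sections over small opens around every point is a colimit. -/
theorem nonempty_isColimit_of_local
    (H : ∀ (W : X.Opens) (p : X), p ∈ W → ∃ W' : X.Opens, p ∈ W' ∧ W' ≤ W ∧ Function.Bijective (sumApp c W')) :
    Nonempty (IsColimit (Cofan.mk F c)) := by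
  classical
  have hinj : ∀ W, Function.Injective (sumApp c W) := fun W x y hxy => funext fun i => by
    refine AModX.eq_of_locally _ _ fun p hp => ?_
    obtain ⟨W', hp', hle, hb⟩ := H W p hp
    have h1 := congrArg (res F hle) hxy
    rw [res_sumApp, res_sumApp] at h1
    exact ⟨W', hle, hp', congrFun (hb.1 h1) i⟩
  have hsur : ∀ W, Function.Surjective (sumApp c W) := fun W z => by
    choose W' hpW hle hb using fun p : W => H W p.1 p.2
    choose x hx using fun p => (hb p).2 (res F (hle p) z)
    have hglue : ∀ i, ∃ y : Γ(M i, W), ∀ p, res (M i) (hle p) y = x p i := fun i => by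
      obtain ⟨y, hy, -⟩ := AModX.existsUnique_glue (M := M i) (V := W) W' hle
        (fun p hp => ⟨⟨p, hp⟩, hpW ⟨p, hp⟩⟩) (fun p => x p i) fun p q => by
          have h1 : (fun j => res (M j) (inf_le_left : W' p ⊓ W' q ≤ W' p) (x p j)) =
              fun j => res (M j) (inf_le_right : W' p ⊓ W' q ≤ W' q) (x q j) := by
            refine hinj _ ?_
            rw [← res_sumApp, ← res_sumApp, hx, hx, res_res, res_res]
          exact congrFun h1 i
      exact ⟨y, hy⟩
    choose y hy using hglue
    refine ⟨y, AModX.eq_of_locally _ _ fun p hp => ⟨W' ⟨p, hp⟩, hle _, hpW _, ?_⟩⟩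
    rw [res_sumApp, ← hx]
    exact congrArg (sumApp c _) (funext fun i => hy i _)
  let Ψ : ⨁ M ⟶ F := biproduct.desc c
  have hι : ∀ W i (x : Γ(M i, W)), Ψ.app W ((biproduct.ι M i).app W x) = (c i).app W x := fun W i x => by
    rw [← biproduct.ι_desc (p := c) i]
    rfl
  have htot : ∀ W (z : Γ((⨁ M : X.Modules), W)),
      z = ∑ i, (biproduct.ι M i).app W ((biproduct.π M i).app W z) := fun W z => by
    have h := congr(Scheme.Modules.Hom.app $(biproduct.total (f := M)) W z)
    rw [QCoh.app_sum] at h
    exact h.symm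
  have hΨ : ∀ W z, Ψ.app W z = sumApp c W fun i => (biproduct.π M i).app W z := fun W z => by
    conv_lhs => rw [htot W z]
    rw [map_sum]
    exact Finset.sum_congr rfl fun i _ => hι W i _
  have : IsIso Ψ := by
    refine Scheme.Modules.Hom.isIso_iff_isIso_app.2 fun W => (ConcreteCategory.isIso_iff_bijective _).2 ⟨?_, ?_⟩
    · intro z z' h
      rw [hΨ, hΨ] at h
      rw [htot W z, htot W z']
      exact Finset.sum_congr rfl fun i _ => congrArg _ (congrFun (hinj W h) i)
    · intro w
      obtain ⟨x, rfl⟩ := hsur W w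
      refine ⟨∑ i, (biproduct.ι M i).app W (x i), ?_⟩
      rw [map_sum]
      exact Finset.sum_congr rfl fun i _ => hι W i _
  let e : (⨁ M : X.Modules) ≅ F := @asIso _ _ _ _ Ψ this
  exact ⟨IsColimit.ofIsoColimit (biproduct.isColimit M)
    (Cocone.ext e fun j => biproduct.ι_desc c j.as)⟩

end Groth.Agent.CycCovGeo
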