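import Groth.Agent.CycCovGeo.Bridge
import Groth.Agent.HTopAwn.Normal

/-!
# The algebra of a normalised cyclic cover over an affine open
-/

universe u

open CategoryTheory AlgebraicGeometry Opposite TopologicalSpace
open Polynomial (C)

namespace Groth.Agent.CycCovGeo

variable {X Y : Scheme.{u}} {L : X.Modules} {N : ℕ} {s : Coh.structureModule X ⟶ CohB1.tensorPow L N}
  {π : Y ⟶ X}

/-- The restriction of the equation of a section. -/
theorem val_res {U V : X.Opens} (h : V ≤ U) {e : Γ(L, U)} {c : Γ(X, U)}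
    (hc : SecTwist.val s U = c • CycCov.lpow L U e N) :
    SecTwist.val s V = X.presheaf.map (homOfLE h).op c • CycCov.lpow L V (AModX.res L h e) N := by
  rw [← res_lpow h, ← SecTwist.map_val s (homOfLE h), hc]
  exact AModX.res_smul h c _

theorem exists_basicOpen_le_inter (U : X.affineOpens) (W : X.Opens) {y : X} (hyU : y ∈ U.1) (hyW : y ∈ W) :
    ∃ h : Γ(X, U.1), y ∈ X.basicOpen h ∧ X.basicOpen h ≤ W ∧ h ≠ 0 := by
  obtain ⟨h, hle, hy⟩ := U.2.exists_basicOpen_le ⟨y, hyW⟩ hyU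
  exact ⟨h, hy, hle, fun h0 => by simp [h0] at hy⟩

variable (R : CycCov.Root L N s π)

theorem chart_mk (U : X.affineOpens) {e : Γ(L, U.1)} (he : CycCov.IsGen L U.1 e) {c : Γ(X, U.1)}
    (hc : SecTwist.val s U.1 = c • CycCov.lpow L U.1 e N) (q : Polynomial Γ(X, U.1)) :
    CycCov.chart R U e he c hc (AdjoinRoot.mk _ q) = q.eval₂ (π.app U.1).hom (R.t U e he) :=
  AdjoinRoot.lift_mk _ q

theorem map_eval₂_res {U V : X.affineOpens} (h : V.1 ≤ U.1) {e : Γ(L, U.1)} (he : CycCov.IsGen L U.1 e)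
    (he' : CycCov.IsGen L V.1 (AModX.res L h e)) (q : Polynomial Γ(X, U.1)) :
    Y.presheaf.map (homOfLE (π.preimage_mono h)).op (q.eval₂ (π.app U.1).hom (R.t U e he)) =
      (q.map (X.presheaf.map (homOfLE h).op).hom).eval₂ (π.app V.1).hom (R.t V _ he') := by
  rw [Polynomial.hom_eval₂, Polynomial.eval₂_map]
  congr 1
  · rw [← CommRingCat.hom_comp, ← CommRingCat.hom_comp, π.naturality]
    rfl
  · exact R.t_res U V h e he he'

variable {R}

theorem eq_zero_of_eval₂_eq_zero (hN : 0 < N) {U : X.affineOpens} [Nontrivial Γ(X, U.1)] {e : Γ(L, U.1)}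
    {he : CycCov.IsGen L U.1 e} {c : Γ(X, U.1)} {hc : SecTwist.val s U.1 = c • CycCov.lpow L U.1 e N}
    (hbij : Function.Bijective (CycCov.chart R U e he c hc)) {q : Polynomial Γ(X, U.1)} (hq : q.degree < N)
    (h : q.eval₂ (π.app U.1).hom (R.t U e he) = 0) : q = 0 := by
  have h1 : AdjoinRoot.mk (Polynomial.X ^ N - C c) q = 0 :=
    hbij.1 (by rw [map_zero, chart_mk, h])
  by_contra hq0
  exact (Polynomial.monic_X_pow_sub_C c hN.ne').not_dvd_of_degree_lt hq0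
    (by rwa [Polynomial.degree_X_pow_sub_C hN]) (AdjoinRoot.mk_eq_zero.1 h1)

theorem exists_eval₂_eq (hN : 0 < N) {U : X.affineOpens} [Nontrivial Γ(X, U.1)] {e : Γ(L, U.1)}
    {he : CycCov.IsGen L U.1 e} {c : Γ(X, U.1)} {hc : SecTwist.val s U.1 = c • CycCov.lpow L U.1 e N}
    (hbij : Function.Bijective (CycCov.chart R U e he c hc)) (z : Γ(Y, π ⁻¹ᵁ U.1)) :
    ∃ q : Polynomial Γ(X, U.1), q.degree < N ∧ q.eval₂ (π.app U.1).hom (R.t U e he) = z := by
  obtain ⟨w, hw⟩ := hbij.2 z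
  obtain ⟨q, rfl⟩ := AdjoinRoot.mk_surjective w
  have hm : (Polynomial.X ^ N - C c).Monic := Polynomial.monic_X_pow_sub_C c hN.ne'
  refine ⟨q %ₘ (Polynomial.X ^ N - C c), ?_, ?_⟩
  · exact (Polynomial.degree_modByMonic_lt q hm).trans_eq (Polynomial.degree_X_pow_sub_C hN c)
  · rw [← hw, chart_mk, Polynomial.modByMonic_eq_sub_mul_div, Polynomial.eval₂_sub, Polynomial.eval₂_mul,
      Polynomial.eval₂_sub, Polynomial.eval₂_X_pow, Polynomial.eval₂_C, R.pow_eq U e he c hc, sub_self,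
      zero_mul, sub_zero]

theorem eval₂_sum {B A : Type u} [CommRing B] [CommRing A] (φ : B →+* A) (t : A) (b : Fin N → B) :
    (∑ i : Fin N, C (b i) * Polynomial.X ^ (i : ℕ)).eval₂ φ t = ∑ i : Fin N, φ (b i) * t ^ (i : ℕ) := by
  simp only [Polynomial.eval₂_finsetSum, Polynomial.eval₂_mul, Polynomial.eval₂_C, Polynomial.eval₂_X_pow]

/-- The sections over the preimage of an affine open form a `CoverAlg`. -/
theorem coverAlg [IsIntegral X] (hN : 0 < N) (hR : CycCov.IsCover R) {r : ℕ} (U : X.affineOpens) [Nonempty U.1]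
    {g : Fin r → Γ(X, U.1)} {α : Fin r → ℕ} {u : Γ(X, U.1)ˣ} {e : Γ(L, U.1)} (he : InvX.IsFrame e)
    (hs : SecTwist.val s U.1 = ((u : Γ(X, U.1)) * ∏ j, g j ^ α j) • CycCov.lpow L U.1 e N) :
    letI := (π.app U.1).hom.toAlgebra
    CoverAlg g α u N (R.t U e (isGen_of_isFrame he)) := by
  classical
  let : Algebra Γ(X, U.1) Γ(Y, π ⁻¹ᵁ U.1) := (π.app U.1).hom.toAlgebra
  obtain ⟨hfin, hnor, W, hWd, hWd', hbij⟩ := hR
  have : IsFinite π := hfin
  have : AlgebraicGeometry.IsReduced Y := HTopAwn.isReduced_of_isNormal hnor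
  set t := R.t U e (isGen_of_isFrame he) with ht
  have hloc : ∀ (V : X.affineOpens) (hVU : V.1 ≤ U.1) (q : Polynomial Γ(X, U.1)),
      Y.presheaf.map (homOfLE (π.preimage_mono hVU)).op (q.eval₂ (π.app U.1).hom t) =
        (q.map (X.presheaf.map (homOfLE hVU).op).hom).eval₂ (π.app V.1).hom
          (R.t V _ (isGen_of_isFrame (he.res hVU))) :=
    fun V hVU q => map_eval₂_res R hVU _ _ q
  have hlocC : ∀ (V : X.affineOpens) (hVU : V.1 ≤ U.1) (b : Γ(X, U.1)),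
      Y.presheaf.map (homOfLE (π.preimage_mono hVU)).op ((π.app U.1).hom b) =
        (π.app V.1).hom ((X.presheaf.map (homOfLE hVU).op).hom b) := by
    intro V hVU b
    have h := hloc V hVU (C b)
    rwa [Polynomial.map_C, Polynomial.eval₂_C, Polynomial.eval₂_C] at h
  have hbij' : ∀ (V : X.affineOpens) (hVU : V.1 ≤ U.1), V.1 ≤ W → Function.Bijective (CycCov.chart R V _
      (isGen_of_isFrame (he.res hVU)) _ (val_res hVU hs)) :=
    fun V hVU hle => hbij V hle _ _ _ _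
  obtain ⟨y₀, hy₀U, hy₀W⟩ : ((U.1 : Set X) ∩ (W : Set X)).Nonempty := by
    obtain ⟨⟨y, hy⟩⟩ := ‹Nonempty U.1›
    exact hWd.inter_open_nonempty _ U.1.2 ⟨y, hy⟩
  obtain ⟨h₀, hy₀h, hle₀, hh₀⟩ := exists_basicOpen_le_inter U W (y := y₀) hy₀U hy₀W
  have hred : ∀ x : Γ(Y, π ⁻¹ᵁ U.1), (Y.basicOpen x : Set Y) ∩ (π ⁻¹ᵁ W : Y.Opens) = ∅ → x = 0 := by
    intro x hx
    refine (basicOpen_eq_bot_iff x).1 (Opens.ext ?_)
    rw [Opens.coe_bot]
    by_contra hne
    obtain ⟨y, hy⟩ := hWd'.inter_open_nonempty _ (Y.basicOpen x).2 (Set.nonempty_iff_ne_empty.2 hne)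
    exact (Set.eq_empty_iff_forall_notMem.1 hx y) hy
  have htf : ∀ b : Γ(X, U.1), b ≠ 0 → ∀ x : Γ(Y, π ⁻¹ᵁ U.1), b • x = 0 → x = 0 := by
    intro b hb x hbx
    refine hred x (Set.eq_empty_iff_forall_notMem.2 fun y ⟨hy, hyW⟩ => ?_)
    have hyU : π y ∈ U.1 := Y.basicOpen_le x hy
    obtain ⟨h, hyh, hle, -⟩ := exists_basicOpen_le_inter U W (y := π y) hyU hyW
    obtain ⟨V, hV⟩ : ∃ V : X.affineOpens, V.1 = X.basicOpen h := ⟨X.affineBasicOpen h, rfl⟩
    have hVU : V.1 ≤ U.1 := hV.le.trans (X.basicOpen_le h)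
    have hyV : π y ∈ V.1 := hV.ge hyh
    have : Nonempty V.1 := ⟨⟨π y, hyV⟩⟩
    have hbj := hbij' V hVU (hV.le.trans hle)
    obtain ⟨q, hq, hqx⟩ := exists_eval₂_eq hN hbj (Y.presheaf.map (homOfLE (π.preimage_mono hVU)).op x)
    have h0 : (C ((X.presheaf.map (homOfLE hVU).op).hom b) * q).eval₂
        (π.app V.1).hom (R.t V _ (isGen_of_isFrame (he.res hVU))) = 0 := by
      rw [Polynomial.eval₂_mul, Polynomial.eval₂_C, hqx, ← hlocC V hVU, ← map_mul,
        show (π.app U.1).hom b * x = 0 from hbx, map_zero]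
    have hbV : (X.presheaf.map (homOfLE hVU).op).hom b ≠ 0 := fun e0 =>
      hb (map_injective_of_isIntegral X (homOfLE hVU) (by rw [map_zero]; exact e0))
    have hq0 := eq_zero_of_eval₂_eq_zero hN hbj (lt_of_le_of_lt (Polynomial.degree_C_mul hbV).le hq) h0
    rw [mul_eq_zero, Polynomial.C_eq_zero] at hq0
    rw [hq0.resolve_left hbV, Polynomial.eval₂_zero] at hqx
    have h3 := Y.basicOpen_res x (homOfLE (π.preimage_mono hVU)).op
    rw [← hqx, Scheme.basicOpen_zero] at h3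
    exact (h3.ge ⟨hyV, hy⟩ : y ∈ (⊥ : Y.Opens))
  let V₀ : X.affineOpens := X.affineBasicOpen h₀
  have hV₀ : V₀.1 ≤ U.1 := X.basicOpen_le h₀
  have : Nonempty V₀.1 := ⟨⟨y₀, hy₀h⟩⟩
  have hinj : ∀ z : Γ(Y, π ⁻¹ᵁ U.1), Y.presheaf.map (homOfLE (π.preimage_mono hV₀)).op z = 0 → z = 0 := by
    intro z hz
    refine htf h₀ hh₀ z ?_
    refine (basicOpen_eq_bot_iff _).1 (eq_bot_iff.2 fun y hy => ?_)
    rw [Algebra.smul_def, Scheme.basicOpen_mul] at hy
    have h3 := Y.basicOpen_res z (homOfLE (π.preimage_mono hV₀)).op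
    rw [hz, Scheme.basicOpen_zero] at h3
    refine h3.ge ⟨?_, hy.2⟩
    show y ∈ π ⁻¹ᵁ X.basicOpen h₀
    rw [π.preimage_basicOpen h₀]
    exact hy.1
  refine ⟨?_, htf, ?_, fun x => ?_, fun x => ?_, fun b c y hb hy => ?_⟩
  · exact R.pow_eq U e _ _ hs
  · refine Fintype.linearIndependent_iff.2 fun b hb i => ?_
    have h1 : (∑ i : Fin N, C (b i) * Polynomial.X ^ (i : ℕ)).eval₂ (π.app U.1).hom t = 0 := by
      rw [eval₂_sum, ← hb]; rfl
    have h2 := hloc V₀ hV₀ (∑ i : Fin N, C (b i) * Polynomial.X ^ (i : ℕ))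
    rw [h1, map_zero, Polynomial.map_sum] at h2
    simp only [Polynomial.map_mul, Polynomial.map_pow, Polynomial.map_C, Polynomial.map_X] at h2
    have h3 := congrArg (Polynomial.coeff · (i : ℕ))
      (eq_zero_of_eval₂_eq_zero hN (hbij' V₀ hV₀ hle₀) (Polynomial.degree_sum_fin_lt _) h2.symm)
    simp only [Polynomial.finsetSum_coeff, Polynomial.coeff_C_mul, Polynomial.coeff_X_pow, Fin.val_inj,
      mul_ite, mul_one, mul_zero, Finset.sum_ite_eq, Finset.mem_univ, if_true, Polynomial.coeff_zero] at h3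
    exact map_injective_of_isIntegral X (homOfLE hV₀) (by rw [map_zero]; exact h3)
  · obtain ⟨q, hq, hqx⟩ := exists_eval₂_eq hN (hbij' V₀ hV₀ hle₀)
      (Y.presheaf.map (homOfLE (π.preimage_mono hV₀)).op x)
    let : Algebra Γ(X, U.1) Γ(X, V₀.1) := (X.presheaf.map (homOfLE hV₀).op).hom.toAlgebra
    have : IsLocalization.Away h₀ Γ(X, V₀.1) := U.2.isLocalization_basicOpen h₀
    obtain ⟨⟨m, hm⟩, hb⟩ := IsLocalization.exist_integer_multiples_of_finite (Submonoid.powers h₀)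
      (fun i : Fin N => q.coeff (i : ℕ))
    choose b hb using hb
    have hm0 : m ≠ 0 := by obtain ⟨l, rfl⟩ := hm; exact pow_ne_zero _ hh₀
    refine ⟨m, hm0, (Submodule.mem_span_range_iff_exists_fun _).2 ⟨b, sub_eq_zero.1 (hinj _ ?_)⟩⟩
    have hsum : ∑ i : Fin N, b i • t ^ (i : ℕ) =
        (∑ i : Fin N, C (b i) * Polynomial.X ^ (i : ℕ)).eval₂ (π.app U.1).hom t := by
      rw [eval₂_sum]; rfl
    have hpoly : (∑ i : Fin N, C (b i) * Polynomial.X ^ (i : ℕ)).map (X.presheaf.map (homOfLE hV₀).op).hom =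
        C ((X.presheaf.map (homOfLE hV₀).op).hom m) * q := by
      conv_rhs => rw [Polynomial.as_sum_range_C_mul_X_pow' (n := N) (p := q) (by
        rcases eq_or_ne q 0 with rfl | h0
        · simpa using hN
        · exact (Polynomial.natDegree_lt_iff_degree_lt h0).2 hq)]
      rw [Polynomial.map_sum, ← Fin.sum_univ_eq_sum_range, Finset.mul_sum]
      refine Finset.sum_congr rfl fun i _ => ?_
      rw [Polynomial.map_mul, Polynomial.map_pow, Polynomial.map_C, Polynomial.map_X, ← mul_assoc, ← map_mul]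
      congr 2
      have h5 := hb i
      rw [Algebra.smul_def] at h5
      exact h5
    rw [map_sub, hsum, hloc V₀ hV₀, hpoly, Polynomial.eval₂_mul, Polynomial.eval₂_C, hqx, Algebra.smul_def,
      map_mul, show algebraMap Γ(X, U.1) Γ(Y, π ⁻¹ᵁ U.1) m = (π.app U.1).hom m from rfl, hlocC V₀ hV₀, sub_self]
  · exact (π.finite_app U.1 U.2).to_isIntegral x
  · have hbn : ∀ x : Γ(Y, π ⁻¹ᵁ U.1), (π.app U.1).hom b * x = 0 → x = 0 := fun x hx => htf b hb x hx
    let J : Ideal Γ(Y, π ⁻¹ᵁ U.1) := Submodule.comap (LinearMap.mulRight Γ(Y, π ⁻¹ᵁ U.1) y)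
      (Ideal.span {(π.app U.1).hom b})
    suffices hJ : (1 : Γ(Y, π ⁻¹ᵁ U.1)) ∈ J by
      obtain ⟨z, hz⟩ := Ideal.mem_span_singleton.1 hJ
      refine ⟨z, ?_⟩
      have hz' : (1 : Γ(Y, π ⁻¹ᵁ U.1)) * y = (π.app U.1).hom b * z := hz
      rw [one_mul] at hz'
      exact hz'.symm
    rw [← Ideal.eq_top_iff_one]
    by_contra hne
    obtain ⟨P, hP, hJP⟩ := Ideal.exists_le_maximal _ hne
    have hV : IsAffineOpen (π ⁻¹ᵁ U.1) := U.2.preimage π
    have hyq : hV.fromSpec ⟨P, hP.isPrime⟩ ∈ π ⁻¹ᵁ U.1 := hV.range_fromSpec.le ⟨_, rfl⟩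
    let : Algebra Γ(Y, π ⁻¹ᵁ U.1) (Y.presheaf.stalk (hV.fromSpec ⟨P, hP.isPrime⟩)) :=
      Y.presheaf.algebra_section_stalk ⟨hV.fromSpec ⟨P, hP.isPrime⟩, hyq⟩
    have : IsLocalization.AtPrime (Y.presheaf.stalk (hV.fromSpec ⟨P, hP.isPrime⟩)) P :=
      hV.isLocalization_stalk' ⟨P, hP.isPrime⟩ hyq
    have := (hnor (hV.fromSpec ⟨P, hP.isPrime⟩)).1
    have := (hnor (hV.fromSpec ⟨P, hP.isPrime⟩)).2
    set φ := algebraMap Γ(Y, π ⁻¹ᵁ U.1) (Y.presheaf.stalk (hV.fromSpec ⟨P, hP.isPrime⟩)) with hφ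
    have hy' : φ y ^ N = φ ((π.app U.1).hom b) ^ N * φ ((π.app U.1).hom c) := by
      have : y ^ N = (π.app U.1).hom (b ^ N * c) := hy
      rw [← map_pow, this, map_mul, map_pow, map_mul, map_pow]
    obtain ⟨z, hz⟩ := (IsIntegrallyClosed.pow_dvd_pow_iff hN.ne').1 (Dvd.intro _ hy'.symm)
    obtain ⟨⟨a, d⟩, had⟩ := IsLocalization.surj P.primeCompl z
    have h1 : φ (d.1 * y) = φ ((π.app U.1).hom b * a) := by
      rw [map_mul, map_mul, hz, mul_left_comm, mul_comm (φ d.1) z, had]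
    obtain ⟨d', hd'⟩ := IsLocalization.exists_of_eq (M := P.primeCompl) h1
    refine (d' * d).2 (hJP ?_)
    show (d'.1 * d.1) * y ∈ Ideal.span {(π.app U.1).hom b}
    exact Ideal.mem_span_singleton.2 ⟨d'.1 * a, by rw [mul_assoc, hd']; ring⟩

end Groth.Agent.CycCovGeo
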