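import Groth.Agent.InvX.Tensor
import Groth.Agent.InvX.GenLocusPull
import Groth.Agent.OmegaLib.IdealMod
import Groth.Agent.H23.PicMul

/-!
# Frames of the module of a locally principal ideal sheaf, and tensor inverses
-/

universe u

open CategoryTheory AlgebraicGeometry TopologicalSpace Opposite

namespace Groth.Agent.CycCovGeo

open Groth.Agent.AModX
open scoped Groth.Agent.H23.PicMul

variable {X : Scheme.{u}} {M : X.Modules}

/-- A section is a frame when it is a basis over every smaller affine open. -/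
theorem isFrame_of_affine {U : X.Opens} {e : Γ(M, U)}
    (h : ∀ (W : X.affineOpens) (hW : W.1 ≤ U), Function.Bijective fun r : Γ(X, W.1) => r • res M hW e) :
    InvX.IsFrame e := by
  intro V hV
  have hinj : ∀ (V : X.Opens) (hV : V ≤ U) (r r' : Γ(X, V)),
      r • res M hV e = r' • res M hV e → r = r' := fun V hV r r' hr => by
    refine (AModX.eq_of_locally (M := Coh.structureModule X) r r' fun p hp => ?_ : _)
    obtain ⟨_, ⟨W, hW, rfl⟩, hpW, hle⟩ := X.isBasis_affineOpens.exists_subset_of_mem_open (show p ∈ V from hp) V.2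
    refine ⟨W, hle, hpW, (h ⟨W, hW⟩ (show W ≤ U from fun q hq => hV (hle hq))).1 ?_⟩
    have h1 := congrArg (res M (show W ≤ V from hle)) hr
    rw [res_smul, res_smul, res_res] at h1
    exact h1
  refine ⟨fun r r' hr => hinj V hV r r' hr, fun z => ?_⟩
  have hloc : ∀ p : V, ∃ W : X.affineOpens, p.1 ∈ W.1 ∧ W.1 ≤ V := fun p => by
    obtain ⟨_, ⟨W, hW, rfl⟩, hpW, hle⟩ := X.isBasis_affineOpens.exists_subset_of_mem_open (show p.1 ∈ V from p.2) V.2
    exact ⟨⟨W, hW⟩, hpW, hle⟩
  choose W hpW hW using hloc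
  choose r hr using fun p => (h (W p) ((hW p).trans hV)).2 (res M (hW p) z)
  obtain ⟨R, hR, -⟩ := AModX.existsUnique_glue (M := Coh.structureModule X) (V := V) (fun p => (W p).1) hW
    (fun p hp => ⟨⟨p, hp⟩, hpW ⟨p, hp⟩⟩) r fun p q => by
      refine hinj _ (inf_le_left.trans ((hW p).trans hV)) _ _ ?_
      have h1 := congrArg (res M (inf_le_left : (W p).1 ⊓ (W q).1 ≤ (W p).1)) (hr p)
      have h2 := congrArg (res M (inf_le_right : (W p).1 ⊓ (W q).1 ≤ (W q).1)) (hr q)
      rw [res_smul, res_res, res_res] at h1 h2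
      exact h1.trans h2.symm
  refine ⟨R, AModX.eq_of_locally _ _ fun p hp => ⟨(W ⟨p, hp⟩).1, hW _, hpW _, ?_⟩⟩
  show res M _ ((show Γ(X, V) from R) • res M hV e) = _
  rw [res_smul, res_res, ← hr]
  exact congrArg (· • _) (hR ⟨p, hp⟩)

/-- The generator of a principal ideal gives a frame of the module of the ideal sheaf. -/
theorem exists_frame_idealMod [IsIntegral X] (K : X.IdealSheafData) (U : X.affineOpens) (a : Γ(X, U.1))
    (hK : K.ideal U = Ideal.span {a}) (ha : a ≠ 0) :
    ∃ k : Γ(ClSub.idealMod K, U.1), InvX.IsFrame k ∧ OmegaSh.idealSect K U.1 k = a := by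
  obtain ⟨k, hk⟩ := OmegaLib.exists_of_mem K U a (hK ▸ Ideal.mem_span_singleton_self a)
  refine ⟨k, isFrame_of_affine fun W hW => ?_, hk⟩
  have hres : ∀ r : Γ(X, W.1), OmegaSh.idealSect K W.1 (r • res (ClSub.idealMod K) hW k) = r * resR hW a :=
    fun r => by rw [OmegaLib.idealSect_smul, ← hk]; exact congrArg (r * ·) (OmegaLib.idealSect_map K hW k)
  constructor
  · intro r r' hr
    rcases isEmpty_or_nonempty W.1 with hemp | hne
    · have : Subsingleton Γ(X, W.1) := by
        rw [show W.1 = ⊥ from Opens.ext (Set.eq_empty_iff_forall_notMem.2 fun p hp => hemp.false ⟨p, hp⟩)]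
        infer_instance
      exact Subsingleton.elim _ _
    · refine mul_right_cancel₀ (fun h0 => ha ?_) ((hres r).symm.trans ((congrArg _ hr).trans (hres r')))
      have : Nonempty U.1 := hne.map fun p => ⟨p.1, hW p.2⟩
      exact map_injective_of_isIntegral X (homOfLE hW) (h0.trans (map_zero _).symm)
  · intro z
    have h1 := OmegaLib.idealSect_mem K W z
    rw [← K.map_ideal (U := W) (V := U) hW, hK, Ideal.map_span, Set.image_singleton] at h1
    obtain ⟨r, hr⟩ := Ideal.mem_span_singleton'.1 h1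
    exact ⟨r, OmegaLib.idealSect_injective K W.1 ((hres r).trans hr)⟩

/-- A tensor inverse of an invertible module is invertible. -/
theorem isInvertible_of_isInverseOf {P : X.Modules} (hP : PicF.IsInvertible P) (h : ClSub.IsInverseOf P M) :
    PicF.IsInvertible M := by
  obtain ⟨D, hD, hPD⟩ := H23.PicInv.exists_inverse hP
  have h1 : PicF.cl P * PicF.cl M = 1 := by
    rw [← H23.PicMul.cl_tensor, H23.PicMul.one_def]; exact H23.PicMul.cl_eq_iff.2 h
  have h2 : PicF.cl P * PicF.cl D = 1 := by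
    rw [← H23.PicMul.cl_tensor, H23.PicMul.one_def]; exact H23.PicMul.cl_eq_iff.2 hPD
  have h3 : PicF.cl D = PicF.cl M := by
    calc PicF.cl D = PicF.cl D * (PicF.cl P * PicF.cl M) := by rw [h1, mul_one]
      _ = (PicF.cl P * PicF.cl D) * PicF.cl M := by rw [← mul_assoc, mul_comm (PicF.cl D)]
      _ = PicF.cl M := by rw [h2, one_mul]
  obtain ⟨e⟩ := H23.PicMul.cl_eq_iff.1 h3
  exact H23.PicMul.isInvertible_of_iso e hD

/-- The dual frame. -/
theorem exists_dual_frame {P : X.Modules} (Φ : CohB1.tensorMod P M ≅ Coh.structureModule X) {U : X.Opens}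
    {p : Γ(P, U)} (hp : InvX.IsFrame p) {m₀ : Γ(M, U)} (hm₀ : InvX.IsFrame m₀) :
    ∃ m : Γ(M, U), InvX.IsFrame m ∧
      (show Γ(X, U) from Φ.hom.app U (InvX.tmul p m)) = 1 := by
  have hf : InvX.IsFrame (Φ.hom.app U (InvX.tmul p m₀)) :=
    InvX.IsFrame.map_iso Φ (InvX.isFrame_tmul hp hm₀)
  set w : Γ(X, U) := Φ.hom.app U (InvX.tmul p m₀) with hw
  obtain ⟨v, hv⟩ := (hf U le_rfl).2 (show Γ(Coh.structureModule X, U) from (1 : Γ(X, U)))
  have hv' : v * w = 1 := by
    refine Eq.trans ?_ hv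
    show v * w = v • res (Coh.structureModule X) _ (show Γ(Coh.structureModule X, U) from w)
    rw [res_self]
    rfl
  refine ⟨v • m₀, hm₀.isUnit_smul (IsUnit.of_mul_eq_one w hv'), ?_⟩
  show (show Γ(X, U) from Φ.hom.app U (InvX.tmul p (v • m₀))) = 1
  rw [InvX.tmul_smul_right, Scheme.Modules.Hom.app_smul]
  exact hv'

end Groth.Agent.CycCovGeo
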