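import Groth.Agent.CycCovGeo.CoverOn
import Groth.Agent.CycCovGeo.IdealFrame
import Groth.Agent.CycCovGeo.CofanIso

/-!
# The eigen-decomposition of the direct image of the structure sheaf of a cyclic cover
-/

universe u

open CategoryTheory CategoryTheory.Limits AlgebraicGeometry Opposite TopologicalSpace

namespace Groth.Agent.CycCovGeo

open Groth.Agent.AModX

variable {X Y : Scheme.{u}} {L : X.Modules} {N : ℕ} {s : Coh.structureModule X ⟶ CohB1.tensorPow L N}
  {π : Y ⟶ X}

theorem t_congr (R : CycCov.Root L N s π) {U : X.affineOpens} {e e' : Γ(L, U.1)} (h : e = e')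
    (he : CycCov.IsGen L U.1 e) (he' : CycCov.IsGen L U.1 e') : R.t U e he = R.t U e' he' := by
  subst h; rfl

/-- The frame of the integral part given by a frame of `L` and a frame of the ideal. -/
noncomputable def pElt {r : ℕ} {D : Fin r → X.IdealSheafData} {α : Fin r → ℕ} {U : X.Opens} (e : Γ(L, U)) (i : ℕ)
    (k : Γ(ClSub.idealMod (CycCov.floorIdeal D α N i), U)) : Γ(CycCov.intPart L D α N i, U) :=
  InvX.tmul (AmpleX.powElt e i) k

theorem res_pElt {r : ℕ} {D : Fin r → X.IdealSheafData} {α : Fin r → ℕ} {U V : X.Opens} (h : V ≤ U) (e : Γ(L, U))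
    (i : ℕ) (k : Γ(ClSub.idealMod (CycCov.floorIdeal D α N i), U)) :
    res (CycCov.intPart L D α N i) h (pElt e i k) =
      pElt (res L h e) i (res (ClSub.idealMod (CycCov.floorIdeal D α N i)) h k) :=
  (InvX.res_tmul h _ _).trans (congrArg (fun z => InvX.tmul z _) (AmpleX.res_powElt h e i))

theorem pElt_smul {r : ℕ} {D : Fin r → X.IdealSheafData} {α : Fin r → ℕ} {U : X.Opens} (b c : Γ(X, U))
    (e : Γ(L, U)) (i : ℕ) (k : Γ(ClSub.idealMod (CycCov.floorIdeal D α N i), U)) :
    pElt (b • e) i (c • k) = (b ^ i * c) • pElt e i k := by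
  show InvX.tmul _ _ = (b ^ i * c) • InvX.tmul _ _
  rw [AmpleX.powElt_smul, InvX.tmul_smul_left, InvX.tmul_smul_right, smul_smul]
  rfl

theorem isFrame_pElt {r : ℕ} {D : Fin r → X.IdealSheafData} {α : Fin r → ℕ} {U : X.Opens} {e : Γ(L, U)}
    (he : InvX.IsFrame e) {i : ℕ} {k : Γ(ClSub.idealMod (CycCov.floorIdeal D α N i), U)} (hk : InvX.IsFrame k) :
    InvX.IsFrame (pElt e i k) :=
  InvX.isFrame_tmul (AmpleX.isFrame_powElt he i) hk

/-- Local data of the decomposition. -/
structure Datum (L : X.Modules) (N : ℕ) (s : Coh.structureModule X ⟶ CohB1.tensorPow L N) {r : ℕ}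
    (D : Fin r → X.IdealSheafData) (α : Fin r → ℕ) {M : Fin N → X.Modules}
    (Φ : ∀ i : Fin N, CohB1.tensorMod (CycCov.intPart L D α N i) (M i) ≅ Coh.structureModule X) (x : X) where
  U : X.affineOpens
  mem : x ∈ U.1
  g : Fin r → Γ(X, U.1)
  ideal : ∀ j, (D j).ideal U = Ideal.span {g j}
  branches : Branches g
  u : Γ(X, U.1)ˣ
  e : Γ(L, U.1)
  he : InvX.IsFrame e
  hs : SecTwist.val s U.1 = ((u : Γ(X, U.1)) * ∏ j, g j ^ α j) • CycCov.lpow L U.1 e N
  k : ∀ i : Fin N, Γ(ClSub.idealMod (CycCov.floorIdeal D α N i), U.1)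
  hk : ∀ i : Fin N, InvX.IsFrame (k i)
  hksect : ∀ i : Fin N, OmegaSh.idealSect (CycCov.floorIdeal D α N i) U.1 (k i) = flProd g α N i
  m : ∀ i : Fin N, Γ(M i, U.1)
  hm : ∀ i : Fin N, InvX.IsFrame (m i)
  pair : ∀ i : Fin N, (Φ i).hom.app U.1
    (InvX.tmul (pElt e i (k i)) (m i)) =
      (show Γ(Coh.structureModule X, U.1) from (1 : Γ(X, U.1)))

variable {k : Type u} [Field k] [IsIntegral X] {r : ℕ} {D : Fin r → X.IdealSheafData} {α : Fin r → ℕ}
  {M : Fin N → X.Modules}
  {Φ : ∀ i : Fin N, CohB1.tensorMod (CycCov.intPart L D α N i) (M i) ≅ Coh.structureModule X}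

theorem exists_datum (f : X ⟶ Spec (CommRingCat.of k)) (hD : LogNCD.IsNCD D f) (hL : PicF.IsInvertible L)
    (hs : CycCov.IsZeroDiv (CohB1.tensorPow L N) s (CycCov.divIdeal D α)) (x : X) :
    Nonempty (Datum L N s D α Φ x) := by
  have hP : ∀ i : Fin N, PicF.IsInvertible (CycCov.intPart L D α N i) := fun i => by
    refine InvX.isInvertible_tensorMod (InvX.isInvertible_tensorPow hL _) (InvX.isInvertible_of_frames fun y => ?_)
    obtain ⟨U, g, -, hU⟩ := exists_nice hD y ⊤ trivial
    have : Nonempty U.1 := ⟨⟨y, hU.mem⟩⟩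
    obtain ⟨kk, hk, -⟩ := exists_frame_idealMod (CycCov.floorIdeal D α N i) U (flProd g α N i)
      (by simp only [CycCov.floorIdeal, divIdeal_ideal, hU.ideal, Ideal.span_singleton_pow,
        Ideal.prod_span_singleton]; rfl) (flProd_ne_zero hU.branches _)
    exact ⟨U.1, hU.mem, kk, hk⟩
  have hMi : ∀ i, PicF.IsInvertible (M i) := fun i => isInvertible_of_isInverseOf (hP i) ⟨Φ i⟩
  choose V hxV m₀ hm₀ using fun i => InvX.exists_frame (hMi i) x
  obtain ⟨U, g, e, hle, hU, he⟩ := exists_frame_nice hD hL x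
    ⟨⋂ i, (V i : Set X), isOpen_iInter_of_finite fun i => (V i).2⟩ (Set.mem_iInter.2 hxV)
  have hUV : ∀ i, U.1 ≤ V i := fun i y hy => Set.mem_iInter.1 (hle hy) i
  obtain ⟨u, hu⟩ := exists_unit_coeff hU he hs
  have : Nonempty U.1 := ⟨⟨x, hU.mem⟩⟩
  choose kk hk hksect using fun i : Fin N => exists_frame_idealMod (CycCov.floorIdeal D α N i) U (flProd g α N i)
    (by simp only [CycCov.floorIdeal, divIdeal_ideal, hU.ideal, Ideal.span_singleton_pow,
      Ideal.prod_span_singleton]; rfl) (flProd_ne_zero hU.branches _)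
  choose m hm hpair using fun i : Fin N => exists_dual_frame (Φ i) (U := U.1)
    (p := pElt e (i : ℕ) (kk i)) (isFrame_pElt he (hk i))
    (m₀ := AModX.res (M i) (hUV i) (m₀ i)) ((hm₀ i).res (hUV i))
  exact ⟨⟨U, hU.mem, g, hU.ideal, hU.branches, u, e, he, hu, kk, hk, hksect, m, hm, hpair⟩⟩

variable {R : CycCov.Root L N s π}

/-- The image of the frame. -/
noncomputable def Datum.img {x : X} (d : Datum L N s D α Φ x) (hN : 0 < N) (hR : CycCov.IsCover R)
    (i : Fin N) : Γ(Y, π ⁻¹ᵁ d.U.1) :=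
  letI := (π.app d.U.1).hom.toAlgebra
  haveI : Nonempty d.U.1 := ⟨⟨x, d.mem⟩⟩
  (coverAlg (R := R) hN hR d.U d.he d.hs).gen d.branches i

theorem Datum.flProd_mul_img {x : X} (d : Datum L N s D α Φ x) (hN : 0 < N) (hR : CycCov.IsCover R) (i : Fin N) :
    (π.app d.U.1).hom (flProd d.g α N i) * d.img hN hR i = R.t d.U d.e (isGen_of_isFrame d.he) ^ (i : ℕ) :=
  letI := (π.app d.U.1).hom.toAlgebra
  haveI : Nonempty d.U.1 := ⟨⟨x, d.mem⟩⟩
  (coverAlg (R := R) hN hR d.U d.he d.hs).flProd_smul_gen d.branches i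

theorem img_compat (hN : 0 < N) (hR : CycCov.IsCover R) {a b : X} (da : Datum L N s D α Φ a)
    (db : Datum L N s D α Φ b) (i : Fin N) {W : X.Opens} (ha : W ≤ da.U.1) (hb : W ≤ db.U.1) (g' : Γ(X, W))
    (hg : res (M i) hb (db.m i) = g' • res (M i) ha (da.m i)) :
    Y.presheaf.map (homOfLE (π.preimage_mono hb)).op (db.img hN hR i) =
      (π.app W).hom g' * Y.presheaf.map (homOfLE (π.preimage_mono ha)).op (da.img hN hR i) := by
  have key : ∀ (W' : X.affineOpens) (hW' : W'.1 ≤ W),
      Y.presheaf.map (homOfLE (π.preimage_mono (hW'.trans hb))).op (db.img hN hR i) =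
        (π.app W'.1).hom (resR hW' g') *
          Y.presheaf.map (homOfLE (π.preimage_mono (hW'.trans ha))).op (da.img hN hR i) := by
    intro W' hW'
    rcases isEmpty_or_nonempty W'.1 with hemp | hne
    · have : Subsingleton Γ(Y, π ⁻¹ᵁ W'.1) := by
        rw [show W'.1 = ⊥ from Opens.ext (Set.eq_empty_iff_forall_notMem.2 fun p hp => hemp.false ⟨p, hp⟩),
          Scheme.Hom.preimage_bot]
        infer_instance
      exact Subsingleton.elim _ _
    have hWa := hW'.trans ha
    have hWb := hW'.trans hb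
    have : Nonempty da.U.1 := hne.map fun p => ⟨p.1, hWa p.2⟩
    set ea := res L hWa da.e with hea
    obtain ⟨β, hβ⟩ := (da.he.res hWa).exists_coord le_rfl (res L hWb db.e)
    rw [res_self, ← hea] at hβ
    obtain ⟨γ, hγ⟩ := ((da.hk i).res hWa).exists_coord le_rfl
      (res (ClSub.idealMod (CycCov.floorIdeal D α N i)) hWb (db.k i))
    rw [res_self] at hγ
    have hfl : resR hWb (flProd db.g α N i) = γ * resR hWa (flProd da.g α N i) := by
      have h1 := congrArg (OmegaSh.idealSect (CycCov.floorIdeal D α N i) W'.1) hγ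
      rw [OmegaLib.idealSect_smul] at h1
      have h2 := OmegaLib.idealSect_map (CycCov.floorIdeal D α N i) hWb (db.k i)
      have h3 := OmegaLib.idealSect_map (CycCov.floorIdeal D α N i) hWa (da.k i)
      rw [db.hksect] at h2
      rw [da.hksect] at h3
      exact h2.symm.trans (h1.trans (congrArg (γ * ·) h3))
    have hpair : ∀ {c : X} (d : Datum L N s D α Φ c) (h : W'.1 ≤ d.U.1),
        (Φ i).hom.app W'.1 (InvX.tmul (pElt (res L h d.e) i (res (ClSub.idealMod (CycCov.floorIdeal D α N i)) h (d.k i)))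
          (res (M i) h (d.m i))) = (show Γ(Coh.structureModule X, W'.1) from (1 : Γ(X, W'.1))) := fun d h => by
      rw [← res_pElt h, ← InvX.res_tmul]
      refine (app_res (Φ i).hom h _).trans ?_
      exact (congrArg (res (Coh.structureModule X) h) (d.pair i)).trans (map_one (resR h))
    have hmb : res (M i) hWb (db.m i) = resR hW' g' • res (M i) hWa (da.m i) := by
      rw [← res_res hb hW', hg, res_smul, res_res]
    have hone : β ^ (i : ℕ) * γ * resR hW' g' = 1 := by
      have h2 := hpair da hWa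
      rw [← hea] at h2
      have h1 := hpair db hWb
      rw [hβ, hγ, hmb, pElt_smul, InvX.tmul_smul_left, InvX.tmul_smul_right, smul_smul,
        Scheme.Modules.Hom.app_smul, h2] at h1
      refine Eq.trans ?_ (show (β ^ (i : ℕ) * γ * resR hW' g') • (show Γ(Coh.structureModule X, W'.1) from
        (1 : Γ(X, W'.1))) = _ from h1)
      exact (mul_one _).symm
    -- the coordinates of the root
    have hta : ∀ {c : X} (d : Datum L N s D α Φ c) (h : W'.1 ≤ d.U.1),
        (π.app W'.1).hom (resR h (flProd d.g α N i)) * Y.presheaf.map (homOfLE (π.preimage_mono h)).op (d.img hN hR i) =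
          R.t W' (res L h d.e) (isGen_of_isFrame (d.he.res h)) ^ (i : ℕ) := fun d h => by
      have h1 := congrArg (Y.presheaf.map (homOfLE (π.preimage_mono h)).op).hom (d.flProd_mul_img hN hR i)
      rw [map_mul, map_pow] at h1
      have h2 : (Y.presheaf.map (homOfLE (π.preimage_mono h)).op).hom ((π.app d.U.1).hom (flProd d.g α N i)) =
          (π.app W'.1).hom (resR h (flProd d.g α N i)) :=
        (congr($(π.naturality (homOfLE h).op) (flProd d.g α N i))).symm
      rw [h2] at h1
      refine h1.trans ?_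
      congr 1
      exact R.t_res d.U W' h d.e _ _
    have hgen : CycCov.IsGen L W'.1 (β • ea) := by rw [← hβ]; exact isGen_of_isFrame (db.he.res hWb)
    have ht : R.t W' (res L hWb db.e) (isGen_of_isFrame (db.he.res hWb)) * (π.app W'.1).hom β =
        R.t W' ea (isGen_of_isFrame (da.he.res hWa)) := by
      rw [t_congr R hβ _ hgen]
      exact R.t_smul W' ea _ β hgen
    have hsW : SecTwist.val s W'.1 = (((Units.map (resR hWa).toMonoidHom da.u : Γ(X, W'.1)ˣ) : Γ(X, W'.1)) *
        ∏ j, resR hWa (da.g j) ^ α j) • CycCov.lpow L W'.1 ea N := by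
      have h1 := val_res hWa da.hs
      rw [map_mul, map_prod] at h1
      simp only [map_pow] at h1
      exact h1
    let : Algebra Γ(X, W'.1) Γ(Y, π ⁻¹ᵁ W'.1) := (π.app W'.1).hom.toAlgebra
    have H := coverAlg (R := R) hN hR W' (da.he.res hWa) hsW
    have hne0 : resR hWa (flProd da.g α N i) ≠ 0 := fun h0 =>
      flProd_ne_zero da.branches _ (map_injective_of_isIntegral X (homOfLE hWa) (h0.trans (map_zero _).symm))
    refine H.smul_cancel hne0 ?_
    show (π.app W'.1).hom _ * _ = (π.app W'.1).hom _ * _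
    have hA := hta da hWa
    have hB := hta db hWb
    rw [hfl, map_mul] at hB
    rw [← ht, mul_pow] at hA
    rw [← hB] at hA
    have hone' := congrArg (π.app W'.1).hom hone
    rw [map_mul, map_mul, map_pow, map_one] at hone'
    linear_combination (-(π.app W'.1).hom (resR hW' g')) * hA -
      (π.app W'.1).hom (resR hWa (flProd da.g α N i)) *
        Y.presheaf.map (homOfLE (π.preimage_mono hWb)).op (db.img hN hR i) * hone'
  refine AModX.eq_of_locally (M := Coh.structureModule Y) _ _ fun q hq => ?_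
  obtain ⟨W', hxW', hle⟩ := exists_affine_le W (x := π q) hq
  refine ⟨π ⁻¹ᵁ W'.1, π.preimage_mono hle, hxW', ?_⟩
  show Y.presheaf.map _ _ = Y.presheaf.map _ _
  rw [map_mul]
  simp only [← CommRingCat.comp_apply, ← Functor.map_comp]
  refine (key W' hle).trans ?_
  congr 1
  exact congr($(π.naturality (homOfLE hle).op) g')

/-- The direct image of the structure sheaf is the sum of the inverses of the integral parts. -/
theorem exists_isColimit_cofan [IsAlgClosed k] (f : X ⟶ Spec (CommRingCat.of k)) [Smooth f]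
    (hD : LogNCD.IsNCD D f) (hL : PicF.IsInvertible L) (hN : 0 < N) (hNk : (N : k) ≠ 0)
    (hs : CycCov.IsZeroDiv (CohB1.tensorPow L N) s (CycCov.divIdeal D α)) (hR : CycCov.IsCover R)
    (hM : ∀ i : Fin N, ClSub.IsInverseOf (CycCov.intPart L D α N i) (M i)) :
    ∃ c : ∀ i : Fin N, M i ⟶ (Scheme.Modules.pushforward π).obj (Coh.structureModule Y),
      Nonempty (IsColimit (Cofan.mk ((Scheme.Modules.pushforward π).obj (Coh.structureModule Y)) c)) := by
  classical
  have : IsFinite π := hR.1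
  let Φ := fun i => (hM i).some
  have hd := fun x => (exists_datum (Φ := Φ) f hD hL hs x).some
  have hcov : ∀ x : X, ∃ a, x ∈ (hd a).U.1 := fun x => ⟨x, (hd x).mem⟩
  let F := (Scheme.Modules.pushforward π).obj (Coh.structureModule Y)
  let c : ∀ i : Fin N, M i ⟶ F := fun i =>
    InvX.ofFrames (M := M i) (N := F) (U := fun a => (hd a).U.1) (e := fun a => (hd a).m i)
      (n := fun a => (show Γ(F, (hd a).U.1) from (hd a).img hN hR i)) hcov (fun a => (hd a).hm i)
      fun a b W ha hb g' hg => img_compat hN hR (hd a) (hd b) i ha hb g' hg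
  refine ⟨c, nonempty_isColimit_of_local c fun W p hp => ?_⟩
  let d := hd p
  obtain ⟨h, hph, hle, hh⟩ := exists_basicOpen_le_inter d.U W (y := p) d.mem hp
  have hW' : X.basicOpen h ≤ d.U.1 := X.basicOpen_le h
  refine ⟨X.basicOpen h, hph, hle, ?_⟩
  have : Nonempty d.U.1 := ⟨⟨p, d.mem⟩⟩
  let : Algebra Γ(X, d.U.1) Γ(Y, π ⁻¹ᵁ d.U.1) := (π.app d.U.1).hom.toAlgebra
  have H := coverAlg (R := R) hN hR d.U d.he d.hs
  obtain ⟨ζ, hζ⟩ := exists_primitiveRoot f d.U.1 hNk
  have := isIntegrallyClosed_sections f d.U.2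
  have hNB := isUnit_natCast f d.U.1 hNk
  let ρ : Γ(Y, π ⁻¹ᵁ d.U.1) →+* Γ(Y, π ⁻¹ᵁ X.basicOpen h) := (Y.presheaf.map (homOfLE (π.preimage_mono hW')).op).hom
  let πW : Γ(X, X.basicOpen h) →+* Γ(Y, π ⁻¹ᵁ X.basicOpen h) := (π.app (X.basicOpen h)).hom
  have hρ : ∀ z, ρ ((π.app d.U.1).hom z) = πW (resR hW' z) := fun z =>
    (congr($(π.naturality (homOfLE hW').op) z)).symm
  let : Algebra Γ(X, d.U.1) Γ(X, X.basicOpen h) := (resR hW').toAlgebra
  have : IsLocalization.Away h Γ(X, X.basicOpen h) := d.U.2.isLocalization_basicOpen h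
  let : Algebra Γ(Y, π ⁻¹ᵁ d.U.1) Γ(Y, π ⁻¹ᵁ X.basicOpen h) := ρ.toAlgebra
  have : IsLocalization.Away ((π.app d.U.1).hom h) Γ(Y, π ⁻¹ᵁ X.basicOpen h) :=
    (d.U.2.preimage π).isLocalization_of_eq_basicOpen ((π.app d.U.1).hom h) (homOfLE (π.preimage_mono hW'))
      (π.preimage_basicOpen h)
  have hsum : ∀ r : Fin N → Γ(X, X.basicOpen h),
      (show Γ(Y, π ⁻¹ᵁ X.basicOpen h) from sumApp c (X.basicOpen h) fun i => r i • res (M i) hW' (d.m i)) =
        ∑ i, πW (r i) * ρ (d.img hN hR i) := fun r => by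
    refine Finset.sum_congr rfl fun i _ => ?_
    rw [Scheme.Modules.Hom.app_smul]
    refine congrArg (πW (r i) * ·) ?_
    exact InvX.ofFrames_app_res (U := fun a => (hd a).U.1) (e := fun a => (hd a).m i)
      (n := fun a => (show Γ(F, (hd a).U.1) from (hd a).img hN hR i)) hcov (fun a => (hd a).hm i)
      (fun a b W ha hb g' hg => img_compat hN hR (hd a) (hd b) i ha hb g' hg) p hW'
  have himg : ∀ i : Fin N, d.img hN hR i = H.basis d.branches hN hNB hζ i := fun i =>
    (H.basis_apply d.branches hN hNB hζ i).symm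
  have hzero : ∀ r : Fin N → Γ(X, X.basicOpen h), ∑ i, πW (r i) * ρ (d.img hN hR i) = 0 → r = 0 := by
    intro r hr
    obtain ⟨⟨m, hm⟩, hb⟩ := IsLocalization.exist_integer_multiples_of_finite (Submonoid.powers h) r
    choose b hb using hb
    have hb' : ∀ i, resR hW' (b i) = resR hW' m * r i := fun i => by
      have h5 := hb i; rw [Algebra.smul_def] at h5; exact h5
    have h0 : ρ (∑ i, b i • d.img hN hR i) = 0 := by
      rw [map_sum]
      refine (Finset.sum_congr rfl fun i _ => ?_).trans ((Finset.mul_sum _ _ (πW (resR hW' m))).symm.trans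
        (by rw [hr, mul_zero]))
      rw [Algebra.smul_def, RingHom.map_mul ρ, ← mul_assoc, ← RingHom.map_mul πW]
      exact congrArg (· * ρ (d.img hN hR i)) ((hρ (b i)).trans (congrArg πW (hb' i)))
    obtain ⟨⟨_, l, rfl⟩, hl⟩ := (IsLocalization.map_eq_zero_iff (Submonoid.powers ((π.app d.U.1).hom h))
      Γ(Y, π ⁻¹ᵁ X.basicOpen h) _).1 h0
    have h1 : ∑ i, b i • H.basis d.branches hN hNB hζ i = 0 := by
      simp only [← himg]
      refine H.torsionFree (h ^ l) (pow_ne_zero _ hh) _ ?_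
      rw [Algebra.smul_def, RingHom.algebraMap_toAlgebra, map_pow]
      exact hl
    have h2 := Fintype.linearIndependent_iff.1 (H.basis d.branches hN hNB hζ).linearIndependent b h1
    funext i
    have h3 := hb' i
    rw [h2 i, map_zero] at h3
    exact ((IsLocalization.map_units Γ(X, X.basicOpen h) (⟨m, hm⟩ : Submonoid.powers h)).mul_right_eq_zero).1 h3.symm
  constructor
  · intro x y hxy
    choose r hr using fun i => ((d.hm i).exists_coord hW' (x i))
    choose r' hr' using fun i => ((d.hm i).exists_coord hW' (y i))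
    rw [show x = fun i => r i • res (M i) hW' (d.m i) from funext hr,
      show y = fun i => r' i • res (M i) hW' (d.m i) from funext hr'] at hxy ⊢
    have h1 := (hsum r).symm.trans (hxy.trans (hsum r'))
    have h2 := hzero (r - r') (by
      simp only [Pi.sub_apply, map_sub, sub_mul, Finset.sum_sub_distrib]
      exact sub_eq_zero.2 h1)
    exact funext fun i => by rw [sub_eq_zero.1 (congrFun h2 i)]
  · intro z
    obtain ⟨⟨a, ⟨_, l, rfl⟩⟩, hz⟩ := IsLocalization.surj (Submonoid.powers ((π.app d.U.1).hom h))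
      (show Γ(Y, π ⁻¹ᵁ X.basicOpen h) from z)
    obtain ⟨w, hw⟩ := IsLocalization.map_units Γ(X, X.basicOpen h) (⟨h ^ l, l, rfl⟩ : Submonoid.powers h)
    let b := (H.basis d.branches hN hNB hζ).repr a
    refine ⟨fun i => (resR hW' (b i) * ↑w⁻¹) • res (M i) hW' (d.m i), ?_⟩
    refine (hsum fun i => resR hW' (b i) * ↑w⁻¹).trans ?_
    have hwu : IsUnit (πW (w : Γ(X, X.basicOpen h))) := w.isUnit.map _
    refine hwu.mul_left_cancel ?_
    rw [Finset.mul_sum]
    have hz' : πW (w : Γ(X, X.basicOpen h)) * (show Γ(Y, π ⁻¹ᵁ X.basicOpen h) from z) = ρ a := by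
      rw [hw]
      refine Eq.trans ?_ hz
      rw [mul_comm]
      congr 1
      show πW (resR hW' (h ^ l)) = ρ (((π.app d.U.1).hom h) ^ l)
      rw [← map_pow, hρ]
    rw [hz', ← (H.basis d.branches hN hNB hζ).sum_repr a, map_sum]
    refine Finset.sum_congr rfl fun i _ => ?_
    rw [← himg, Algebra.smul_def, RingHom.map_mul ρ, ← mul_assoc, ← RingHom.map_mul πW, mul_left_comm,
      Units.mul_inv, mul_one]
    exact congrArg (· * _) (hρ (b i)).symm

end Groth.Agent.CycCovGeo
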