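import Groth.Agent.CycCovGeo.CoverOn
import Groth.Agent.Hensel.EtaleResidueExt

/-!
# The cyclic cover over an open where the equation is a unit is etale
-/

universe u

open CategoryTheory AlgebraicGeometry Opposite TopologicalSpace

namespace Groth.Agent.CycCovGeo

theorem restrict_of_local {P : MorphismProperty Scheme.{u}} [IsZariskiLocalAtTarget P] {X Y : Scheme.{u}}
    (π : Y ⟶ X) (W : X.Opens) (H : ∀ x ∈ W, ∃ U : X.Opens, x ∈ U ∧ U ≤ W ∧ P (π ∣_ U)) : P (π ∣_ W) := by
  refine IsZariskiLocalAtTarget.of_forall_exists_morphismRestrict fun x => ?_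
  obtain ⟨U, hxU, hUW, hU⟩ := H (W.ι x) x.2
  refine ⟨W.ι ⁻¹ᵁ U, hxU, ?_⟩
  refine (P.arrow_mk_iso_iff (morphismRestrictRestrict π W _ ≪≫ morphismRestrictEq π ?_)).2 hU
  rw [Scheme.Hom.image_preimage_eq_opensRange_inf, Scheme.Opens.opensRange_ι, inf_eq_right.2 hUW]

theorem etale_restrict_of_app {X Y : Scheme.{u}} (π : Y ⟶ X) [IsAffineHom π] {U : X.Opens} (hU : IsAffineOpen U)
    (h : (π.app U).hom.Etale) : Etale (π ∣_ U) := by
  have : IsAffine (U : Scheme.{u}) := hU
  have : IsAffine ((π ⁻¹ᵁ U : Y.Opens) : Scheme.{u}) := hU.preimage π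
  have h' : ∀ V, V = U → (π.app V).hom.Etale := by rintro V rfl; exact h
  rw [HasRingHomProperty.iff_of_isAffine (P := @Etale), morphismRestrict_appTop]
  refine RingHom.Etale.respectsIso.1 _
    (asIso (Y.presheaf.map (eqToHom (image_morphismRestrict_preimage π U ⊤)).op)).commRingCatIsoToRingEquiv
    (h' _ U.ι_image_top)

variable {k : Type u} [Field k] [IsAlgClosed k] {X Y : Scheme.{u}} {L : X.Modules} {N : ℕ}
  {s : Coh.structureModule X ⟶ CohB1.tensorPow L N} {π : Y ⟶ X}

/-- The chart is bijective when the equation is a unit. -/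
theorem CoverAlg.bijective_lift {B R : Type*} [CommRing B] [IsDomain B] [IsIntegrallyClosed B] [CommRing R]
    [Algebra B R] {ι : Type*} [Fintype ι] {g : ι → B} {α : ι → ℕ} {u : Bˣ} {t : R}
    (H : CoverAlg g α u N t) (hg : Branches g) (hN : 0 < N) (hNB : IsUnit (N : B)) {ζ : B}
    (hζ : IsPrimitiveRoot ζ N) (hone : ∀ j, 0 < α j → g j = 1)
    (c : B) (hroot : (Polynomial.X ^ N - Polynomial.C c).eval₂ (algebraMap B R) t = 0) :
    Function.Bijective (AdjoinRoot.lift (algebraMap B R) t hroot) := by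
  have hfl : ∀ a, H.gen hg a = t ^ a := fun a => (H.eq_gen hg (by
    rw [show flProd g α N a = 1 from Finset.prod_eq_one fun j _ => by
      rcases (α j).eq_zero_or_pos with h | h
      · rw [h, mul_zero, Nat.zero_div, pow_zero]
      · rw [hone j h, one_pow], one_smul])).symm
  have hm : (Polynomial.X ^ N - Polynomial.C c).Monic := Polynomial.monic_X_pow_sub_C c hN.ne'
  let Φ : AdjoinRoot (Polynomial.X ^ N - Polynomial.C c) →ₐ[B] R :=
    AdjoinRoot.liftAlgHom _ (Algebra.ofId B R) t hroot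
  let pb := AdjoinRoot.powerBasis' hm
  have hdim : pb.dim = N := Polynomial.natDegree_X_pow_sub_C
  let e := pb.basis.equiv (H.basis hg hN hNB hζ) (finCongr hdim)
  have : Φ.toLinearMap = e.toLinearMap := pb.basis.ext fun i => by
    change Φ (pb.basis i) = e (pb.basis i)
    rw [Module.Basis.equiv_apply, H.basis_apply, hfl, pb.basis_eq_pow, map_pow]
    exact congrArg (· ^ (i : ℕ)) (AdjoinRoot.liftAlgHom_root _ _ _ _)
  show Function.Bijective Φ.toLinearMap
  rw [this]
  exact e.bijective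

theorem etale_app_of_nice [IsIntegral X] (f : X ⟶ Spec (CommRingCat.of k)) [Smooth f]
    (hN : 0 < N) (hNk : (N : k) ≠ 0) {r : ℕ} {D : Fin r → X.IdealSheafData}
    {α : Fin r → ℕ} (hs : CycCov.IsZeroDiv (CohB1.tensorPow L N) s (CycCov.divIdeal D α))
    {R : CycCov.Root L N s π} (hR : CycCov.IsCover R) {x : X} {U : X.affineOpens} {g : Fin r → Γ(X, U.1)}
    (hU : Nice f D x U g) {e : Γ(L, U.1)} (he : InvX.IsFrame e)
    (hone : ∀ j, 0 < α j → g j = 1) : (π.app U.1).hom.Etale := by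
  have : IsFinite π := hR.1
  have : Nonempty U.1 := ⟨⟨x, hU.mem⟩⟩
  obtain ⟨v, hv⟩ := exists_unit_coeff hU he hs
  let : Algebra Γ(X, U.1) Γ(Y, π ⁻¹ᵁ U.1) := (π.app U.1).hom.toAlgebra
  have H := coverAlg (R := R) hN hR U he hv
  have hprod : ∏ j, g j ^ α j = 1 := Finset.prod_eq_one fun j _ => by
    rcases (α j).eq_zero_or_pos with h | h
    · rw [h, pow_zero]
    · rw [hone j h, one_pow]
  obtain ⟨ζ, hζ⟩ := exists_primitiveRoot f U.1 hNk
  have := isIntegrallyClosed_sections f U.2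
  have hNB := isUnit_natCast f U.1 hNk
  let P : Polynomial Γ(X, U.1) := Polynomial.X ^ N - Polynomial.C (v : Γ(X, U.1))
  have hbij := H.bijective_lift hU.branches hN hNB hζ hone (v : Γ(X, U.1)) (by
    rw [Polynomial.eval₂_sub, Polynomial.eval₂_X_pow, Polynomial.eval₂_C, sub_eq_zero, H.pow, hprod, mul_one])
  have hE : Algebra.Etale Γ(X, U.1) (AdjoinRoot P) := by
    refine Hensel.etale_adjoinRoot (Polynomial.monic_X_pow_sub_C _ hN.ne') ?_
    have hroot : IsUnit (AdjoinRoot.root P) := (isUnit_pow_iff hN.ne').1 (by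
      have h := AdjoinRoot.eval₂_root P
      rw [Polynomial.eval₂_sub, Polynomial.eval₂_X_pow, Polynomial.eval₂_C, sub_eq_zero] at h
      rw [h]; exact v.isUnit.map _)
    simp only [P, Polynomial.derivative_sub, Polynomial.derivative_C, sub_zero, Polynomial.derivative_X_pow,
      map_mul, map_pow, Polynomial.aeval_X, Polynomial.aeval_C]
    exact (hNB.map _).mul (hroot.pow _)
  exact RingHom.etale_algebraMap.2
    (Algebra.Etale.of_equiv (AlgEquiv.ofBijective (AdjoinRoot.liftAlgHom P (Algebra.ofId _ _) (R.t U e (isGen_of_isFrame he)) (by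
      show Polynomial.eval₂ (algebraMap Γ(X, U.1) Γ(Y, π ⁻¹ᵁ U.1)) _ P = 0
      rw [Polynomial.eval₂_sub, Polynomial.eval₂_X_pow, Polynomial.eval₂_C, sub_eq_zero, H.pow, hprod, mul_one])) hbij))

theorem etale_restrict [IsIntegral X] (f : X ⟶ Spec (CommRingCat.of k)) [Smooth f]
    (hL : PicF.IsInvertible L) (hN : 0 < N) (hNk : (N : k) ≠ 0) {r : ℕ} {D : Fin r → X.IdealSheafData}
    {α : Fin r → ℕ} (hD : LogNCD.IsNCD D f)
    (hs : CycCov.IsZeroDiv (CohB1.tensorPow L N) s (CycCov.divIdeal D α))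
    {R : CycCov.Root L N s π} (hR : CycCov.IsCover R)
    (W : X.Opens) (hW : ∀ j : Fin r, 0 < α j → Disjoint (W : Set X) ((D j).support : Set X)) :
    Etale (π ∣_ W) := by
  have : IsFinite π := hR.1
  have : IsZariskiLocalAtTarget @Etale := HasRingHomProperty.instIsZariskiLocalAtTarget (P := @Etale) (Q := RingHom.Etale)
  refine restrict_of_local (P := @Etale) π W fun x hx => ?_
  obtain ⟨U, g, e, hUW, hU, he⟩ := exists_frame_nice hD hL x W hx
  exact ⟨U.1, hU.mem, hUW, etale_restrict_of_app π U.2 (etale_app_of_nice f hN hNk hs hR hU he fun j hj =>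
    hU.miss j fun h => Set.disjoint_left.1 (hW j hj) hx h)⟩

end Groth.Agent.CycCovGeo
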