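import Groth.Agent.CycCovGeo.Normalization
import Mathlib.RingTheory.Localization.FractionRing
import Mathlib.FieldTheory.IsAlgClosed.AlgebraicClosure
import Mathlib.RingTheory.Polynomial.Vieta

/-!
# When is a cyclic cover algebra a domain
-/

universe u v

open Polynomial

namespace Groth.Agent.CycCovGeo

/-- With the roots of unity in the field, `T^N - φ` is irreducible unless `φ` is a proper power. -/
theorem irreducible_X_pow_sub_C_of_not_pow {K : Type u} [Field K] {N : ℕ} (hN : 0 < N) {ζ : K}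
    (hζ : IsPrimitiveRoot ζ N) {φ : K} (hφ : φ ≠ 0)
    (h : ∀ μ : ℕ, 1 < μ → μ ∣ N → ∀ c : K, c ^ μ ≠ φ) : Irreducible (X ^ N - C φ) := by
  have : NeZero N := ⟨hN.ne'⟩
  have hmonic : (X ^ N - C φ).Monic := monic_X_pow_sub_C φ hN.ne'
  have hdeg : (X ^ N - C φ).natDegree = N := natDegree_X_pow_sub_C
  have hne1 : X ^ N - C φ ≠ 1 := fun h1 => by rw [h1, natDegree_one] at hdeg; omega
  by_contra hirr
  rw [hmonic.irreducible_iff_natDegree' ] at hirr
  push Not at hirr
  obtain ⟨p, q, hp, hq, hpq, hd⟩ := hirr hne1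
  rw [hdeg, Finset.mem_Ioc] at hd
  set d := q.natDegree with hd'
  have hd0 : 0 < d := hd.1
  have hdN : d < N := lt_of_le_of_lt hd.2 (Nat.div_lt_self hN one_lt_two)
  let E := AlgebraicClosure K
  let ι : K →+* E := algebraMap K E
  obtain ⟨β, hβ⟩ := IsAlgClosed.exists_pow_nat_eq (ι φ) hN
  have hβ0 : β ≠ 0 := fun h0 => hφ (ι.injective (by rw [map_zero, ← hβ, h0, zero_pow hN.ne']))
  have hs : (q.map ι).Splits := IsAlgClosed.splits _
  have hroots : ∀ z ∈ (q.map ι).roots, ∃ a : K, z = β * ι a := fun z hz => by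
    have hz0 : (q.map ι).eval z = 0 := (mem_roots'.1 hz).2
    have hzN : z ^ N = ι φ := by
      have h1 : ((X ^ N - C φ).map ι).eval z = 0 := by rw [← hpq, Polynomial.map_mul, eval_mul, hz0, mul_zero]
      simpa [sub_eq_zero] using h1
    have hζ' : IsPrimitiveRoot (ι ζ) N := hζ.map_of_injective ι.injective
    obtain ⟨i, -, hi⟩ := hζ'.eq_pow_of_pow_eq_one (ξ := z / β) (by
      rw [div_pow, hzN, ← hβ, div_self (pow_ne_zero _ hβ0)])
    exact ⟨ζ ^ i, by rw [map_pow, hi, mul_div_cancel₀ _ hβ0]⟩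
  have hprod : ∀ m : Multiset E, (∀ z ∈ m, ∃ a : K, z = β * ι a) → ∃ a : K, m.prod = β ^ Multiset.card m * ι a := by
    intro m
    induction m using Multiset.induction_on with
    | empty => exact fun _ => ⟨1, by simp⟩
    | cons z m ih =>
      intro hm
      obtain ⟨a, rfl⟩ := hm z (Multiset.mem_cons_self _ _)
      obtain ⟨b, hb⟩ := ih fun w hw => hm w (Multiset.mem_cons_of_mem hw)
      exact ⟨a * b, by rw [Multiset.prod_cons, hb, Multiset.card_cons, map_mul, pow_succ]; ring⟩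
  obtain ⟨a, ha⟩ := hprod _ hroots
  have hcard : Multiset.card (q.map ι).roots = d := by
    rw [← hs.natDegree_eq_card_roots, natDegree_map]
  have hc0 := Polynomial.Splits.coeff_zero_eq_prod_roots_of_monic hs (hq.map ι)
  rw [natDegree_map, coeff_map, ha, hcard] at hc0
  have ha0 : a ≠ 0 := by
    intro h0
    rw [h0, map_zero, mul_zero, mul_zero, map_eq_zero] at hc0
    have h2 := congrArg (fun P => Polynomial.coeff P 0) hpq
    simp only [mul_coeff_zero, hc0, mul_zero, coeff_sub, coeff_X_pow, coeff_C_zero, if_neg hN.ne, zero_sub] at h2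
    exact hφ (neg_eq_zero.1 h2.symm)
  have hβd : β ^ d = ι (q.coeff 0 * (((-1) ^ d * a)⁻¹)) := by
    have h1 : ((-1) ^ d * a : K) ≠ 0 := mul_ne_zero (pow_ne_zero _ (neg_ne_zero.2 one_ne_zero)) ha0
    rw [map_mul, hc0, map_inv₀, map_mul, map_pow, map_neg, map_one, eq_mul_inv_iff_mul_eq₀]
    · ring
    · rw [← map_one ι, ← map_neg, ← map_pow, ← map_mul]; exact (map_ne_zero ι).2 h1
  set g := Nat.gcd d N with hg
  obtain ⟨μ, hμ⟩ : g ∣ N := Nat.gcd_dvd_right d N
  have hg0 : 0 < g := Nat.gcd_pos_of_pos_left _ hd0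
  have hgN : g < N := lt_of_le_of_lt (Nat.gcd_le_left _ hd0) hdN
  have hμ1 : 1 < μ := by
    rcases Nat.lt_or_ge 1 μ with h1 | h1
    · exact h1
    · interval_cases μ <;> omega
  set A : K := q.coeff 0 * (((-1) ^ d * a)⁻¹) with hA
  set c : K := A ^ (Nat.gcdA d N) * φ ^ (Nat.gcdB d N) with hc
  refine h μ hμ1 (Dvd.intro_left g hμ.symm) c (ι.injective ?_)
  have hβg : β ^ g = ι c := by
    rw [hc, map_mul, map_zpow₀, map_zpow₀, ← hβd, ← hβ, ← zpow_natCast β d, ← zpow_natCast β N, ← zpow_mul,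
      ← zpow_mul, ← zpow_add₀ hβ0, ← Nat.gcd_eq_gcd_ab, zpow_natCast]
  rw [map_pow, ← hβg, ← pow_mul, ← hμ, hβ]

section Domain

variable {B : Type u} [CommRing B] {R : Type*} [CommRing R] [Algebra B R] {ι : Type v} [Fintype ι]
  {N : ℕ} {g : ι → B} {α : ι → ℕ} {t : R} {u : Bˣ}

theorem CoverAlg.eq_zero_of_aeval (H : CoverAlg g α u N t) {p : B[X]} (hp : p.degree < N) (h : aeval t p = 0) :
    p = 0 := by
  rcases eq_or_ne p 0 with rfl | h0
  · rfl
  rw [aeval_def, eval₂_eq_sum_range' _ (n := N) ((natDegree_lt_iff_degree_lt h0).2 hp), ← Fin.sum_univ_eq_sum_range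
      (fun i => algebraMap B R (p.coeff i) * t ^ i)] at h
  simp only [← Algebra.smul_def] at h
  have h2 := Fintype.linearIndependent_iff.1 H.indep (fun i => p.coeff i) h
  ext n
  rcases Nat.lt_or_ge n N with hn | hn
  · exact (h2 ⟨n, hn⟩).trans (coeff_zero _).symm
  · rw [coeff_zero]
    exact coeff_eq_zero_of_degree_lt (lt_of_lt_of_le hp (by exact_mod_cast hn))

theorem CoverAlg.not_isDomain [IsDomain B] (H : CoverAlg g α u N t) {μ : ℕ} (hμ : 1 < μ) (hμN : μ ∣ N)
    (hN : 0 < N) {b : B} (hb : (u : B) * ∏ j, g j ^ α j = b ^ μ) : ¬ IsDomain R := by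
  intro hR
  obtain ⟨n, rfl⟩ := hμN
  have hn : 0 < n := Nat.pos_of_ne_zero fun h0 => by subst h0; simp at hN
  let P : B[X] := X ^ n - C b
  let Q : B[X] := ∑ l ∈ Finset.range μ, (X ^ n) ^ l * C b ^ (μ - 1 - l)
  have hPQ : Q * P = X ^ (μ * n) - C (b ^ μ) := by
    rw [mul_comm μ n, pow_mul, map_pow]
    exact geom_sum₂_mul _ _ _
  have hPdeg : P.natDegree = n := natDegree_X_pow_sub_C
  have hPm : P.Monic := monic_X_pow_sub_C b hn.ne'
  have hQ0 : Q ≠ 0 := fun h0 => by
    rw [h0, zero_mul] at hPQ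
    exact (monic_X_pow_sub_C (b ^ μ) hN.ne').ne_zero hPQ.symm
  have hQdeg : Q.natDegree + n = μ * n := by
    rw [← hPdeg, ← natDegree_mul hQ0 hPm.ne_zero, hPQ, natDegree_X_pow_sub_C, hPdeg]
  have h0 : aeval t Q * aeval t P = 0 := by
    rw [← map_mul, hPQ, map_sub, map_pow, aeval_X, aeval_C, H.pow, hb, sub_self]
  rcases mul_eq_zero.1 h0 with hz | hz
  · refine hQ0 (H.eq_zero_of_aeval (degree_le_natDegree.trans_lt ?_) hz)
    exact_mod_cast (show Q.natDegree < μ * n by omega)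
  · refine hPm.ne_zero (H.eq_zero_of_aeval (degree_le_natDegree.trans_lt ?_) hz)
    rw [hPdeg]
    exact_mod_cast (Nat.lt_mul_iff_one_lt_left hn).2 hμ

theorem CoverAlg.isDomain [IsDomain B] (H : CoverAlg g α u N t) [Nontrivial R] (hN : 0 < N) (K : Type*) [Field K]
    [Algebra B K] [IsFractionRing B K]
    (hirr : Irreducible (X ^ N - C (algebraMap B K ((u : B) * ∏ j, g j ^ α j)))) : IsDomain R := by
  set φ := (u : B) * ∏ j, g j ^ α j with hφ
  have hm : (X ^ N - C φ).Monic := monic_X_pow_sub_C φ hN.ne'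
  have hrep : ∀ x : R, ∃ (h : B) (p : B[X]), h ≠ 0 ∧ p.degree < N ∧ h • x = aeval t p := fun x => by
    obtain ⟨h, hh, hx⟩ := H.span x
    obtain ⟨c, hc⟩ := (Submodule.mem_span_range_iff_exists_fun B).1 hx
    refine ⟨h, ∑ i : Fin N, C (c i) * X ^ (i : ℕ), hh, degree_sum_fin_lt _, ?_⟩
    rw [← hc, map_sum]
    exact Finset.sum_congr rfl fun i _ => by rw [map_mul, map_pow, aeval_X, aeval_C, Algebra.smul_def]
  have : NoZeroDivisors R := ⟨fun {x y} hxy => by
    obtain ⟨h, p, hh, hp, hhp⟩ := hrep x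
    obtain ⟨h', q, hh', hq, hhq⟩ := hrep y
    have h0 : aeval t (p * q) = 0 := by
      rw [map_mul, ← hhp, ← hhq, smul_mul_smul_comm, hxy, smul_zero]
    have h1 : aeval t ((p * q) %ₘ (X ^ N - C φ)) = 0 := by
      rw [modByMonic_eq_sub_mul_div, map_sub, h0, map_mul, map_sub, map_pow, aeval_X, aeval_C, H.pow, ← hφ,
        sub_self, zero_mul, sub_zero]
    have h2 := H.eq_zero_of_aeval ((degree_modByMonic_lt _ hm).trans_eq (degree_X_pow_sub_C hN φ)) h1
    rw [modByMonic_eq_zero_iff_dvd hm] at h2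
    have h3 := Polynomial.map_dvd (algebraMap B K) h2
    rw [Polynomial.map_mul, Polynomial.map_sub, Polynomial.map_pow, map_X, map_C] at h3
    have key : ∀ r : B[X], r.degree < N →
        (X ^ N - C (algebraMap B K φ)) ∣ r.map (algebraMap B K) → r = 0 := fun r hr hd => by
      refine Polynomial.map_injective _ (IsFractionRing.injective B K) ?_
      rw [Polynomial.map_zero]
      by_contra hne
      refine (monic_X_pow_sub_C _ hN.ne').not_dvd_of_degree_lt hne ?_ hd
      rw [degree_X_pow_sub_C hN]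
      exact lt_of_le_of_lt degree_map_le hr
    rcases hirr.prime.dvd_or_dvd h3 with hd | hd
    · left
      refine H.torsionFree h hh x ?_
      rw [hhp, key p hp hd, map_zero]
    · right
      refine H.torsionFree h' hh' y ?_
      rw [hhq, key q hq hd, map_zero]⟩
  exact NoZeroDivisors.to_isDomain R

end Domain

end Groth.Agent.CycCovGeo
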