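import Groth.Agent.CycCovGeo.CoverOn
import Groth.Agent.CycCovGeo.Kummer
import Groth.Agent.InvX.Tensor

/-!
# A cyclic cover is irreducible unless the section is a proper power
-/

universe u

open CategoryTheory AlgebraicGeometry Opposite TopologicalSpace

namespace Groth.Agent.CycCovGeo

open Groth.Agent.AModX

variable {X Y : Scheme.{u}} {L : X.Modules} {N : ℕ} {s : Coh.structureModule X ⟶ CohB1.tensorPow L N} {π : Y ⟶ X}

theorem genericPoint_mem [IsIntegral X] (U : X.Opens) [h : Nonempty U] : genericPoint X ∈ U := by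
  refine ((genericPoint_spec X).mem_open_set_iff U.2).2 ?_
  obtain ⟨⟨x, hx⟩⟩ := h
  exact ⟨x, trivial, hx⟩

theorem germ_injective [IsIntegral X] {U : X.Opens} (hU : genericPoint X ∈ U) :
    Function.Injective (X.presheaf.germ U (genericPoint X) hU) :=
  germ_injective_of_isIntegral X _ hU

section Ratio

variable [IsIntegral X]

variable {M : X.Modules}

/-- The germ at the generic point. -/
noncomputable def gM {U : X.Opens} (hU : genericPoint X ∈ U) :
    Γ(M, U) →+ M.presheaf.stalk (genericPoint X) :=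
  (M.presheaf.germ U (genericPoint X) hU).hom

theorem gM_res {U V : X.Opens} (h : V ≤ U) (hV : genericPoint X ∈ V) (s : Γ(M, U)) :
    gM hV (res M h s) = gM (h hV) s :=
  InvX.germ_res' h hV s

theorem gM_smul {U : X.Opens} (hU : genericPoint X ∈ U) (r : Γ(X, U)) (s : Γ(M, U)) :
    gM hU (r • s) = X.presheaf.germ U (genericPoint X) hU r • gM hU s :=
  QCoh.germ_smul' (M := M) hU r s

/-- The quotient of two rational frames. -/
noncomputable def ratio {U₀ U : X.Opens} {e₀ : Γ(M, U₀)} (he₀ : InvX.IsFrame e₀) (h₀ : genericPoint X ∈ U₀)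
    (hU : genericPoint X ∈ U) (s : Γ(M, U)) : X.presheaf.stalk (genericPoint X) :=
  ((he₀.germ_bijective h₀).2 (gM hU s)).choose

theorem ratio_spec {U₀ U : X.Opens} {e₀ : Γ(M, U₀)} (he₀ : InvX.IsFrame e₀) (h₀ : genericPoint X ∈ U₀)
    (hU : genericPoint X ∈ U) (s : Γ(M, U)) : ratio he₀ h₀ hU s • gM h₀ e₀ = gM hU s :=
  ((he₀.germ_bijective h₀).2 (gM hU s)).choose_spec

theorem ratio_eq {U₀ U : X.Opens} {e₀ : Γ(M, U₀)} (he₀ : InvX.IsFrame e₀) {h₀ : genericPoint X ∈ U₀}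
    {hU : genericPoint X ∈ U} {s : Γ(M, U)} {c : X.presheaf.stalk (genericPoint X)}
    (h : c • gM h₀ e₀ = gM hU s) : ratio he₀ h₀ hU s = c :=
  (he₀.germ_bijective h₀).1 ((ratio_spec he₀ h₀ hU s).trans h.symm)

theorem ratio_ne_zero {U₀ U : X.Opens} {e₀ : Γ(M, U₀)} (he₀ : InvX.IsFrame e₀)
    (h₀ : genericPoint X ∈ U₀) {e : Γ(M, U)} (he : InvX.IsFrame e) (hU : genericPoint X ∈ U) :
    ratio he₀ h₀ hU e ≠ 0 := by
  intro h
  have h1 := ratio_spec he₀ h₀ hU e
  rw [h, zero_smul] at h1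
  have h2 := (he.germ_bijective hU).1 (a₁ := (1 : X.presheaf.stalk (genericPoint X))) (a₂ := 0) (by
    show (1 : X.presheaf.stalk (genericPoint X)) • gM hU e = (0 : X.presheaf.stalk (genericPoint X)) • gM hU e
    rw [← h1, smul_zero, smul_zero])
  exact one_ne_zero h2

/-- Coordinates in a frame are regular functions. -/
theorem exists_coord_ratio {U W : X.Opens} {e : Γ(M, U)} (he : InvX.IsFrame e) (h : W ≤ U)
    (hW : genericPoint X ∈ W) (s : Γ(M, W)) :
    ∃ r : Γ(X, W), s = r • res M h e ∧ ratio he (h hW) hW s = X.presheaf.germ W _ hW r := by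
  obtain ⟨r, hr⟩ := he.exists_coord h s
  exact ⟨r, hr, ratio_eq he (by rw [hr, gM_smul, gM_res h hW])⟩

end Ratio

/-- The ratio of powers of frames. -/
theorem ratio_powElt [IsIntegral X] {U₀ U : X.Opens} {e₀ : Γ(L, U₀)} (he₀ : InvX.IsFrame e₀)
    (h₀ : genericPoint X ∈ U₀) (e : Γ(L, U)) (hU : genericPoint X ∈ U) (n : ℕ) :
    ratio (AmpleX.isFrame_powElt he₀ n) h₀ hU (AmpleX.powElt e n) = ratio he₀ h₀ hU e ^ n := by
  have hO : genericPoint X ∈ U₀ ⊓ U := ⟨h₀, hU⟩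
  obtain ⟨r, hr, hr'⟩ := exists_coord_ratio he₀ (inf_le_left : U₀ ⊓ U ≤ U₀) hO (res L inf_le_right e)
  have h1 : ratio he₀ h₀ hU e = X.presheaf.germ _ _ hO r :=
    ratio_eq he₀ (by rw [← hr', ratio_spec, gM_res])
  refine ratio_eq _ ?_
  rw [h1, ← gM_res (inf_le_right : U₀ ⊓ U ≤ U) hO (AmpleX.powElt e n), AmpleX.res_powElt, hr,
    AmpleX.powElt_smul, gM_smul, map_pow, ← AmpleX.res_powElt, gM_res]

theorem ratio_smul [IsIntegral X] {M : X.Modules} {U₀ U : X.Opens} {e₀ : Γ(M, U₀)} (he₀ : InvX.IsFrame e₀)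
    (h₀ : genericPoint X ∈ U₀) (a : Γ(X, U)) (m : Γ(M, U)) (hU : genericPoint X ∈ U) :
    ratio he₀ h₀ hU (a • m) = X.presheaf.germ U _ hU a * ratio he₀ h₀ hU m :=
  ratio_eq he₀ (by rw [mul_smul, ratio_spec, gM_smul])

theorem val_eq_res (U : X.Opens) :
    SecTwist.val s U = res (CohB1.tensorPow L N) (le_top : U ≤ ⊤) (SecTwist.val s ⊤) :=
  (SecTwist.map_val s (homOfLE (le_top : U ≤ ⊤))).symm

section

variable {k : Type u} [Field k] [IsAlgClosed k] [IsIntegral X] (f : X ⟶ Spec (CommRingCat.of k)) [Smooth f]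
  (hL : PicF.IsInvertible L) (hN : 0 < N) (hNk : (N : k) ≠ 0) {r : ℕ} {D : Fin r → X.IdealSheafData}
  {α : Fin r → ℕ} (hD : LogNCD.IsNCD D f) (hs : CycCov.IsZeroDiv (CohB1.tensorPow L N) s (CycCov.divIdeal D α))
  {R : CycCov.Root L N s π} (hR : CycCov.IsCover R)

include hL hN hNk hD hs hR

/-- The preimage of a nonempty open is dense. -/
theorem dense_preimage (U : X.Opens) (hU : genericPoint X ∈ U) : Dense ((π ⁻¹ᵁ U : Y.Opens) : Set Y) := by
  have : IsFinite π := hR.1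
  have : AlgebraicGeometry.IsReduced Y := HTopAwn.isReduced_of_isNormal hR.2.1
  rw [dense_iff_inter_open]
  rintro O hO ⟨y, hy⟩
  obtain ⟨V, g, e, -, hV, he⟩ := exists_frame_nice hD hL (π y) ⊤ trivial
  have : Nonempty V.1 := ⟨⟨π y, hV.mem⟩⟩
  obtain ⟨u, hu⟩ := exists_unit_coeff hV he hs
  let : Algebra Γ(X, V.1) Γ(Y, π ⁻¹ᵁ V.1) := (π.app V.1).hom.toAlgebra
  have H := coverAlg (R := R) hN hR V he hu
  obtain ⟨h, -, hhU, hh⟩ := exists_basicOpen_le_inter V U (genericPoint_mem V.1) hU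
  obtain ⟨a, ha, hya⟩ := (V.2.preimage π).exists_basicOpen_le
    (V := ⟨O, hO⟩ ⊓ π ⁻¹ᵁ V.1) ⟨y, hy, hV.mem⟩ hV.mem
  have hne : Y.basicOpen ((π.app V.1).hom h * a) ≠ ⊥ := fun hbot => by
    have h0 : h • a = 0 := (Algebra.smul_def h a).trans ((basicOpen_eq_bot_iff _).1 hbot)
    rw [H.torsionFree h hh a h0, Scheme.basicOpen_zero] at hya
    exact hya
  obtain ⟨z, hz⟩ := Set.nonempty_iff_ne_empty.2 fun he' => hne (Opens.ext he')
  rw [SetLike.mem_coe, Scheme.basicOpen_mul] at hz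
  refine ⟨z, (ha hz.2).1, hhU ?_⟩
  have h2 := hz.1
  rw [← π.preimage_basicOpen h] at h2
  exact h2

theorem irreducibleSpace_of_not_pow
    (hnot : ¬ ∃ μ : ℕ, 1 < μ ∧ μ ∣ N ∧ ∃ s' : Coh.structureModule X ⟶ CohB1.tensorPow L (N / μ),
      ∀ (U : X.affineOpens) (e : L.val.obj (op U.1)), CycCov.IsGen L U.1 e →
        ∀ a b : Γ(X, U.1), SecTwist.val s U.1 = a • CycCov.lpow L U.1 e N →
          SecTwist.val s' U.1 = b • CycCov.lpow L U.1 e (N / μ) → a = b ^ μ) :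
    IrreducibleSpace Y := by
  classical
  have : IsFinite π := hR.1
  have : AlgebraicGeometry.IsReduced Y := HTopAwn.isReduced_of_isNormal hR.2.1
  obtain ⟨x₀⟩ := (inferInstance : Nonempty X)
  obtain ⟨U₀, g, e₀, -, hU₀, he₀⟩ := exists_frame_nice hD hL x₀ ⊤ trivial
  have : Nonempty U₀.1 := ⟨⟨x₀, hU₀.mem⟩⟩
  have hη₀ : genericPoint X ∈ U₀.1 := genericPoint_mem U₀.1
  obtain ⟨u, hu⟩ := exists_unit_coeff hU₀ he₀ hs
  let : Algebra Γ(X, U₀.1) Γ(Y, π ⁻¹ᵁ U₀.1) := (π.app U₀.1).hom.toAlgebra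
  have H := coverAlg (R := R) hN hR U₀ he₀ hu
  have := functionField_isFractionRing_of_isAffineOpen X U₀.1 U₀.2
  obtain ⟨ζ, hζ⟩ := exists_primitiveRoot f U₀.1 hNk
  set φ : Γ(X, U₀.1) := (u : Γ(X, U₀.1)) * ∏ j, g j ^ α j with hφ
  have hφ0 : φ ≠ 0 := mul_ne_zero u.ne_zero
    (Finset.prod_ne_zero_iff.2 fun j _ => pow_ne_zero _ (hU₀.branches.ne_zero j))
  have hnpow : ∀ μ : ℕ, 1 < μ → μ ∣ N → ∀ c : X.functionField,
      c ^ μ ≠ algebraMap Γ(X, U₀.1) X.functionField φ := by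
    intro μ hμ hμN c hc
    refine hnot ⟨μ, hμ, hμN, ?_⟩
    set n := N / μ with hn
    have hnμ : n * μ = N := Nat.div_mul_cancel hμN
    have hcover : ∀ x : X, ∃ (U : X.affineOpens) (_ : x ∈ U.1) (e : Γ(L, U.1)) (a : Γ(X, U.1)),
        InvX.IsFrame e ∧ SecTwist.val s U.1 = a • CycCov.lpow L U.1 e N := fun x => by
      obtain ⟨U, g, e, -, hU, he⟩ := exists_frame_nice hD hL x ⊤ trivial
      obtain ⟨a, ha⟩ := exists_coeff he s
      exact ⟨U, hU.mem, e, a, he, ha⟩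
    -- the coefficient of `s` in any frame
    have hrel : ∀ (U : X.affineOpens) (hU : genericPoint X ∈ U.1) (e : Γ(L, U.1)) (a : Γ(X, U.1)),
        SecTwist.val s U.1 = a • CycCov.lpow L U.1 e N →
        X.presheaf.germ U.1 _ hU a * ratio he₀ hη₀ hU e ^ N = algebraMap Γ(X, U₀.1) X.functionField φ := by
      intro U hU e a ha
      have hF := AmpleX.isFrame_powElt he₀ N
      rw [← ratio_powElt he₀ hη₀ e hU N, ← ratio_smul hF hη₀ a _ hU]
      refine ratio_eq hF ?_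
      have ha2 : (SecTwist.val s U.1 : Γ(CohB1.tensorPow L N, U.1)) = a • AmpleX.powElt e N :=
        ha.trans (congrArg (a • ·) (lpow_eq_powElt U.1 e N))
      have hu2 : (SecTwist.val s U₀.1 : Γ(CohB1.tensorPow L N, U₀.1)) = φ • AmpleX.powElt e₀ N :=
        hu.trans (congrArg (φ • ·) (lpow_eq_powElt U₀.1 e₀ N))
      have h1 : gM hη₀ (φ • AmpleX.powElt e₀ N) =
          algebraMap Γ(X, U₀.1) X.functionField φ • gM hη₀ (AmpleX.powElt e₀ N) :=
        gM_smul hη₀ φ _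
      rw [← ha2, ← h1, ← hu2, val_eq_res U.1, val_eq_res U₀.1]
      exact (gM_res (M := CohB1.tensorPow L N) (le_top : U₀.1 ≤ ⊤) hη₀ (SecTwist.val s ⊤)).trans
        (gM_res (M := CohB1.tensorPow L N) (le_top : U.1 ≤ ⊤) hU (SecTwist.val s ⊤)).symm
    choose U hxU e a he ha using hcover
    have hUη : ∀ x, genericPoint X ∈ (U x).1 := fun x =>
      @genericPoint_mem X _ (U x).1 ⟨⟨x, hxU x⟩⟩
    have hb : ∀ x, ∃ b : Γ(X, (U x).1),
        X.presheaf.germ _ _ (hUη x) b * ratio he₀ hη₀ (hUη x) (e x) ^ n = c := fun x => by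
      have : Nonempty (U x).1 := ⟨⟨x, hxU x⟩⟩
      have := functionField_isFractionRing_of_isAffineOpen X (U x).1 (U x).2
      have := isIntegrallyClosed_sections f (U x).2
      set β := ratio he₀ hη₀ (hUη x) (e x) with hβ
      have hβ0 : β ≠ 0 := ratio_ne_zero he₀ hη₀ (he x) (hUη x)
      have h1 : (c / β ^ n) ^ μ = algebraMap Γ(X, (U x).1) X.functionField (a x) := by
        rw [div_pow, ← pow_mul, hnμ, hc, div_eq_iff (pow_ne_zero _ hβ0)]
        exact (hrel (U x) (hUη x) (e x) (a x) (ha x)).symm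
      obtain ⟨b, hb⟩ := IsIntegrallyClosed.algebraMap_eq_of_integral (R := Γ(X, (U x).1))
        (IsIntegral.of_pow (Nat.zero_lt_of_lt hμ) (h1 ▸ isIntegral_algebraMap))
      refine ⟨b, ?_⟩
      show algebraMap Γ(X, (U x).1) X.functionField b * _ = c
      rw [hb, div_mul_cancel₀ _ (pow_ne_zero _ hβ0)]
    choose b hb using hb
    obtain ⟨t, ht, -⟩ := AModX.existsUnique_glue (M := CohB1.tensorPow L n) (V := ⊤) (fun x => (U x).1)
      (fun x => le_top) (fun x _ => ⟨x, hxU x⟩) (fun x => b x • AmpleX.powElt (e x) n) fun x y => by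
        have hW : genericPoint X ∈ (U x).1 ⊓ (U y).1 := ⟨hUη x, hUη y⟩
        have hFx := (AmpleX.isFrame_powElt (he x) n).res (inf_le_left : (U x).1 ⊓ (U y).1 ≤ (U x).1)
        have hgen : ∀ z, gM (hUη z) (b z • AmpleX.powElt (e z) n) =
            c • gM hη₀ (AmpleX.powElt e₀ n) := fun z => by
          rw [← hb z, mul_smul, ← ratio_powElt he₀ hη₀ (e z) (hUη z) n,
            ratio_spec, gM_smul]
        obtain ⟨r₁, hr₁⟩ := hFx.exists_coord le_rfl (res _ (inf_le_left : (U x).1 ⊓ (U y).1 ≤ (U x).1)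
          (b x • AmpleX.powElt (e x) n))
        obtain ⟨r₂, hr₂⟩ := hFx.exists_coord le_rfl (res _ (inf_le_right : (U x).1 ⊓ (U y).1 ≤ (U y).1)
          (b y • AmpleX.powElt (e y) n))
        have h1 := congrArg (gM hW) hr₁
        have h2 := congrArg (gM hW) hr₂
        rw [gM_res, hgen, gM_smul] at h1 h2
        rw [hr₁, hr₂]
        exact congrArg (· • _) (germ_injective hW ((hFx.res le_rfl).germ_bijective hW |>.1 (h1.symm.trans h2)))
    refine ⟨InvX.ofSect t, fun V e' he' a' b' ha' hb' => ?_⟩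
    rcases isEmpty_or_nonempty V.1 with hemp | hne
    · have : Subsingleton Γ(X, V.1) := by
        rw [show V.1 = ⊥ from Opens.ext (Set.eq_empty_iff_forall_notMem.2 fun p hp => hemp.false ⟨p, hp⟩)]
        infer_instance
      exact Subsingleton.elim _ _
    have hVη : genericPoint X ∈ V.1 := genericPoint_mem V.1
    have hF' := isFrame_of_isGen hL V he'
    have hFn := AmpleX.isFrame_powElt he₀ n
    -- the germ of the new section
    have hval : gM hVη (SecTwist.val (InvX.ofSect t) V.1) = c • gM hη₀ (AmpleX.powElt e₀ n) := by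
      have h1 : SecTwist.val (InvX.ofSect t) V.1 = res _ (le_top : V.1 ≤ ⊤) t := by
        rw [← SecTwist.map_val (InvX.ofSect t) (homOfLE (le_top : V.1 ≤ ⊤))]
        exact congrArg (res _ _) (InvX.one_ofSect t)
      rw [h1, gM_res]
      rw [← gM_res (le_top : (U x₀).1 ≤ ⊤) (hUη x₀) t, ht x₀, gM_smul, ← hb x₀, mul_smul,
        ← ratio_powElt he₀ hη₀ (e x₀) (hUη x₀) n, ratio_spec]
    have hb2 : (SecTwist.val (InvX.ofSect t) V.1 : Γ(CohB1.tensorPow L n, V.1)) = b' • AmpleX.powElt e' n :=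
      hb'.trans (congrArg (b' • ·) (lpow_eq_powElt V.1 e' n))
    rw [hb2, gM_smul, ← ratio_spec hFn hη₀ hVη (AmpleX.powElt e' n),
      ratio_powElt he₀ hη₀ e' hVη n, smul_smul] at hval
    have h2 := (hFn.germ_bijective hη₀).1 hval
    refine germ_injective hVη (mul_right_cancel₀ (pow_ne_zero N (ratio_ne_zero he₀ hη₀ hF' hVη)) ?_)
    rw [hrel V hVη e' a' ha', ← hc, ← h2, map_pow, mul_pow, ← pow_mul, hnμ]
  have hirr := irreducible_X_pow_sub_C_of_not_pow hN (hζ.map_of_injective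
    (f := algebraMap Γ(X, U₀.1) X.functionField) (IsFractionRing.injective _ _))
    ((map_ne_zero_iff _ (IsFractionRing.injective _ _)).2 hφ0) hnpow
  have hnt : Nontrivial Γ(Y, π ⁻¹ᵁ U₀.1) := by
    refine nontrivial_of_ne (R.t U₀ e₀ (isGen_of_isFrame he₀) ^ 0) 0 ?_
    exact H.indep.ne_zero ⟨0, hN⟩
  have hdom : IsDomain Γ(Y, π ⁻¹ᵁ U₀.1) := H.isDomain hN X.functionField hirr
  have hirrU : IsIrreducible ((π ⁻¹ᵁ U₀.1 : Y.Opens) : Set Y) := by
    rw [← (U₀.2.preimage π).range_fromSpec, ← Set.image_univ]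
    exact (IrreducibleSpace.isIrreducible_univ _).image _ (U₀.2.preimage π).fromSpec.continuous.continuousOn
  refine irreducibleSpace_def _ |>.2 ?_
  rw [Set.top_eq_univ, ← (dense_preimage f hL hN hNk hD hs hR U₀.1 hη₀).closure_eq]
  exact hirrU.closure

theorem not_irreducibleSpace_iff :
    ¬ IrreducibleSpace Y ↔ ∃ μ : ℕ, 1 < μ ∧ μ ∣ N ∧ ∃ s' : Coh.structureModule X ⟶ CohB1.tensorPow L (N / μ),
      ∀ (U : X.affineOpens) (e : L.val.obj (op U.1)), CycCov.IsGen L U.1 e →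
        ∀ a b : Γ(X, U.1), SecTwist.val s U.1 = a • CycCov.lpow L U.1 e N →
          SecTwist.val s' U.1 = b • CycCov.lpow L U.1 e (N / μ) → a = b ^ μ := by
  refine ⟨fun h => by_contra fun hn => h (irreducibleSpace_of_not_pow f hL hN hNk hD hs hR hn), ?_⟩
  rintro ⟨μ, hμ, hμN, s', hs'⟩ hirr
  have : IsFinite π := hR.1
  have : AlgebraicGeometry.IsReduced Y := HTopAwn.isReduced_of_isNormal hR.2.1
  have : AlgebraicGeometry.IsIntegral Y := isIntegral_of_irreducibleSpace_of_isReduced Y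
  obtain ⟨x₀⟩ := (inferInstance : Nonempty X)
  obtain ⟨U, g, e, -, hU, he⟩ := exists_frame_nice hD hL x₀ ⊤ trivial
  have : Nonempty U.1 := ⟨⟨x₀, hU.mem⟩⟩
  obtain ⟨u, hu⟩ := exists_unit_coeff hU he hs
  let : Algebra Γ(X, U.1) Γ(Y, π ⁻¹ᵁ U.1) := (π.app U.1).hom.toAlgebra
  have H := coverAlg (R := R) hN hR U he hu
  obtain ⟨b, hb⟩ := exists_coeff he s'
  refine H.not_isDomain hμ hμN hN (hs' U e (isGen_of_isFrame he) _ b hu hb) ?_
  obtain ⟨y, hy⟩ := (dense_preimage f hL hN hNk hD hs hR U.1 (genericPoint_mem U.1)).nonempty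
  have : Nonempty (π ⁻¹ᵁ U.1 : Y.Opens) := ⟨⟨y, hy⟩⟩
  infer_instance

end

end Groth.Agent.CycCovGeo
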