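import Groth.Agent.CycCovGeo.Normalization
import Groth.Agent.CycCovLib.Cyclic
import Mathlib.LinearAlgebra.Dimension.Free
import Mathlib.RingTheory.OrzechProperty

/-!
# A cyclic cover with one branch: `R ≅ B[w, s]/(w^g - u, s^m - w^i f)`
-/

universe u v

open Polynomial

namespace Groth.Agent.CycCovGeo

variable {B : Type u} [CommRing B] [IsDomain B] {R : Type v} [CommRing R] [Algebra B R]
  {N α : ℕ} {f : B} {u : Bˣ} {t : R}

/-- The numerical data of one branch. -/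
theorem exists_numerology (hN : 0 < N) (hα : 0 < α) :
    ∃ g₀ m β i j₀ : ℕ, g₀ = Nat.gcd N α ∧ N = g₀ * m ∧ α = g₀ * β ∧ 0 < g₀ ∧ 0 < m ∧ i * β = m * j₀ + 1 := by
  obtain ⟨m, hm⟩ := Nat.gcd_dvd_left N α
  obtain ⟨β, hβ⟩ := Nat.gcd_dvd_right N α
  have hg : 0 < Nat.gcd N α := Nat.gcd_pos_of_pos_left _ hN
  have hm0 : 0 < m := Nat.pos_of_ne_zero fun h => by rw [h, mul_zero] at hm; omega
  have hβ0 : 0 < β := Nat.pos_of_ne_zero fun h => by rw [h, mul_zero] at hβ; omega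
  have hcop : Nat.Coprime β m := by
    have h : Nat.gcd (Nat.gcd N α * m) (Nat.gcd N α * β) = Nat.gcd N α := by rw [← hm, ← hβ]
    rw [Nat.gcd_mul_left] at h
    exact (Nat.coprime_comm).1 (Nat.eq_of_mul_eq_mul_left hg (by rw [h, mul_one]))
  rcases Nat.lt_or_ge 1 m with h1 | h1
  · obtain ⟨i, -, hi⟩ := Nat.exists_mul_mod_eq_one_of_coprime hcop h1
    exact ⟨_, m, β, i, i * β / m, rfl, hm, hβ, hg, hm0, by
      have h2 := Nat.div_add_mod (i * β) m
      rw [mul_comm β i] at hi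
      omega⟩
  · exact ⟨_, m, β, 1, β - 1, rfl, hm, hβ, hg, hm0, by
      obtain rfl : m = 1 := by omega
      omega⟩

theorem flProd_fin_one (a : ℕ) :
    flProd (fun _ : Fin 1 => f) (fun _ => α) N a = f ^ (a * α / N) := by simp [flProd]

theorem CoverAlg.pow_eq_one (H : CoverAlg (fun _ : Fin 1 => f) (fun _ => α) u N t) :
    t ^ N = algebraMap B R ((u : B) * f ^ α) := by simpa using H.pow

/-- The presentation of a cover with one branch. -/
theorem CoverAlg.exists_presentation [IsIntegrallyClosed B]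
    (H : CoverAlg (fun _ : Fin 1 => f) (fun _ => α) u N t) (hg : Branches fun _ : Fin 1 => f)
    (hN : 0 < N) (hα : 0 < α) (hNB : IsUnit (N : B)) {ζ : B} (hζ : IsPrimitiveRoot ζ N) :
    ∃ g₀ m i : ℕ, g₀ = Nat.gcd N α ∧ g₀ * m = N ∧ 0 < g₀ ∧ 0 < m ∧
      Nonempty (CycCovLib.DD g₀ u m i f ≃ₐ[B] R) := by
  obtain ⟨g₀, m, β, i₀, j₀, hgdef, hNgm, hαgβ, hg₀, hm, hbez⟩ := exists_numerology hN hα
  have hf : f ≠ 0 := hg.ne_zero 0
  have hcan : ∀ (n : ℕ) {x y : R}, f ^ n • x = f ^ n • y → x = y := fun n => H.smul_cancel (pow_ne_zero n hf)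
  have htN := H.pow_eq_one
  set e : ℕ → R := H.gen hg
  have he : ∀ a, f ^ (a * α / N) • e a = t ^ a := fun a => by
    rw [← flProd_fin_one a]; exact H.flProd_smul_gen hg a
  set w : R := e m with hwdef
  have hw : f ^ β • w = t ^ m := by
    have h := he m
    rwa [hαgβ, show m * (g₀ * β) / N = β by
      rw [hNgm, ← mul_assoc, mul_comm m g₀, Nat.mul_div_cancel_left _ (Nat.mul_pos hg₀ hm)]] at h
  have hfl : j₀ ≤ i₀ * α / N := by
    rw [hαgβ, mul_left_comm, hbez, hNgm, Nat.le_div_iff_mul_le (Nat.mul_pos hg₀ hm)]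
    calc j₀ * (g₀ * m) = g₀ * (m * j₀) := by ring
      _ ≤ g₀ * (m * j₀ + 1) := Nat.mul_le_mul_left _ (Nat.le_succ _)
  set s : R := f ^ (i₀ * α / N - j₀) • e i₀ with hsdef
  have hs : f ^ j₀ • s = t ^ i₀ := by
    rw [hsdef, smul_smul, ← pow_add, Nat.add_sub_cancel' hfl, he]
  set F : R := algebraMap B R f with hF
  have hcanF : ∀ (n : ℕ) {x y : R}, F ^ n * x = F ^ n * y → x = y := fun n x y h =>
    hcan n (by simpa only [Algebra.smul_def, map_pow, ← hF] using h)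
  simp only [Algebra.smul_def, map_pow, ← hF] at hw hs
  have htNF : t ^ N = algebraMap B R u * F ^ α := by rw [htN, map_mul, map_pow]
  have hwg : w ^ g₀ = algebraMap B R u := by
    refine hcanF (β * g₀) ?_
    rw [pow_mul, ← mul_pow, hw, ← pow_mul, ← pow_mul, mul_comm m g₀, ← hNgm, htNF, mul_comm β g₀, ← hαgβ,
      mul_comm]
  have hsm : s ^ m = w ^ i₀ * F := by
    refine hcanF (j₀ * m + β * i₀) ?_
    calc F ^ (j₀ * m + β * i₀) * s ^ m = F ^ (β * i₀) * (F ^ j₀ * s) ^ m := by ring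
      _ = F ^ (β * i₀) * t ^ (i₀ * m) := by rw [hs, ← pow_mul]
      _ = F ^ (j₀ * m + 1) * (F ^ β * w) ^ i₀ := by
          rw [hw, ← pow_mul, show β * i₀ = j₀ * m + 1 by rw [mul_comm, hbez, mul_comm], mul_comm i₀ m]
      _ = _ := by ring
  let Φ₁ : CycCovLib.CC g₀ u →ₐ[B] R := AdjoinRoot.liftAlgHom _ (Algebra.ofId B R) w (by
    rw [eval₂_sub, eval₂_X_pow, eval₂_C, sub_eq_zero, hwg]; rfl)
  have hΦ₁ : Φ₁ (AdjoinRoot.root _) = w := AdjoinRoot.liftAlgHom_root _ _ _ _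
  let Φ : CycCovLib.DD g₀ u m i₀ f →ₐ[B] R := AdjoinRoot.liftAlgHom _ Φ₁ s (by
    rw [eval₂_sub, eval₂_X_pow, eval₂_C, sub_eq_zero]
    show _ = Φ₁ _
    rw [map_mul, map_pow, hΦ₁, AlgHom.commutes, hsm])
  have hΦs : Φ (CycCovLib.S g₀ u m i₀ f) = s := AdjoinRoot.liftAlgHom_root _ _ _ _
  have hΦw : Φ (CycCovLib.W g₀ u m i₀ f) = w := (AdjoinRoot.liftAlgHom_of _ _ _ _ _).trans hΦ₁
  have hsurj : Function.Surjective Φ := by
    rw [← AlgHom.range_eq_top, eq_top_iff]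
    suffices h : ∀ a, e a ∈ Φ.range by
      intro x _
      have hx : x ∈ Submodule.span B (Set.range fun i : Fin N => e i) := by
        rw [H.span_gen hg hN hNB hζ]; trivial
      exact Submodule.span_le (p := Subalgebra.toSubmodule Φ.range).2 (by rintro _ ⟨i, rfl⟩; exact h i) hx
    intro a
    set fl := a * α / N with hfla
    have hflm : m * fl ≤ a * β := by
      have h1 := Nat.div_mul_le_self (a * α) N
      rw [← hfla] at h1
      refine Nat.le_of_mul_le_mul_left ?_ hg₀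
      calc g₀ * (m * fl) = fl * N := by rw [hNgm]; ring
        _ ≤ a * α := h1
        _ = g₀ * (a * β) := by rw [hαgβ]; ring
    obtain ⟨r, hr⟩ : ∃ r, a * β = m * fl + r := ⟨a * β - m * fl, by omega⟩
    obtain ⟨g', hg'⟩ : ∃ g', g₀ = g' + 1 := ⟨g₀ - 1, by omega⟩
    set l := a * j₀ with hl
    set q := i₀ * fl + a * j₀ * g' with hq
    have hexp1 : i₀ * r + m * q = a + N * l := by
      have h2 : i₀ * (a * β) = i₀ * (m * fl + r) := by rw [hr]
      have h3 : i₀ * (a * β) = a * (m * j₀ + 1) := by rw [← hbez]; ring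
      rw [hq, hl, hNgm, hg']
      ring_nf
      ring_nf at h2 h3
      linarith
    have hexp2 : r * j₀ + β * q = fl + α * l := by
      have h2 : j₀ * (a * β) = j₀ * (m * fl + r) := by rw [hr]
      have h3 : fl * (i₀ * β) = fl * (m * j₀ + 1) := by rw [hbez]
      rw [hq, hl, hαgβ, hg']
      ring_nf
      ring_nf at h2 h3
      linarith
    have key : s ^ r * w ^ q = algebraMap B R (u : B) ^ l * e a := by
      refine hcanF (fl + α * l) ?_
      have he' : F ^ fl * e a = t ^ a := by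
        have := he a; rwa [Algebra.smul_def, map_pow, ← hF] at this
      calc F ^ (fl + α * l) * (s ^ r * w ^ q) = (F ^ j₀ * s) ^ r * (F ^ β * w) ^ q := by rw [← hexp2]; ring
        _ = t ^ a * (t ^ N) ^ l := by rw [hs, hw, ← pow_mul, ← pow_mul, ← pow_mul, ← pow_add, ← pow_add, hexp1]
        _ = _ := by rw [htNF, ← he']; ring
    refine ⟨algebraMap B _ ((↑u⁻¹ : B) ^ l) * (CycCovLib.S g₀ u m i₀ f ^ r * CycCovLib.W g₀ u m i₀ f ^ q), ?_⟩
    show Φ _ = _
    simp only [map_mul, map_pow, hΦs, hΦw, AlgHom.commutes]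
    rw [key, ← mul_assoc, ← mul_pow, ← map_mul, Units.inv_mul, map_one, one_pow, one_mul]
  haveI : Nontrivial B := inferInstance
  have hC : (X ^ g₀ - C (u : B)).Monic := monic_X_pow_sub_C _ hg₀.ne'
  haveI := hC.free_adjoinRoot
  haveI := hC.finite_adjoinRoot
  let pb₁ := AdjoinRoot.powerBasis' hC
  have hC' : (X ^ m - C (AdjoinRoot.root (X ^ g₀ - C (u : B) : B[X]) ^ i₀ *
      algebraMap B (CycCovLib.CC g₀ u) f) : (CycCovLib.CC g₀ u)[X]).Monic := monic_X_pow_sub_C _ hm.ne'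
  haveI : Nontrivial (CycCovLib.CC g₀ u) :=
    (AdjoinRoot.of.injective_of_degree_ne_zero (by rw [degree_X_pow_sub_C hg₀]; exact_mod_cast hg₀.ne') :
      Function.Injective (AdjoinRoot.of (X ^ g₀ - C (u : B)))).nontrivial
  let pb₂ := AdjoinRoot.powerBasis' hC'
  let bD : Module.Basis (Fin pb₁.dim × Fin pb₂.dim) B (CycCovLib.DD g₀ u m i₀ f) := pb₁.basis.smulTower pb₂.basis
  let bR := H.basis hg hN hNB hζ
  have hcard : Fintype.card (Fin pb₁.dim × Fin pb₂.dim) = N := by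
    rw [Fintype.card_prod, Fintype.card_fin, Fintype.card_fin]
    show (X ^ g₀ - C (u : B)).natDegree * (X ^ m - C _ : (CycCovLib.CC g₀ u)[X]).natDegree = N
    rw [natDegree_X_pow_sub_C, natDegree_X_pow_sub_C, hNgm]
  let ψ : R ≃ₗ[B] CycCovLib.DD g₀ u m i₀ f := bR.equiv bD (Fintype.equivFinOfCardEq hcard).symm
  haveI : Module.Finite B R := Module.Finite.of_basis bR
  have hbij : Function.Bijective (Φ.toLinearMap ∘ₗ ψ.toLinearMap) := by
    refine ⟨OrzechProperty.injective_of_surjective_endomorphism _ ?_, ?_⟩ <;>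
      exact hsurj.comp ψ.surjective
  refine ⟨g₀, m, i₀, hgdef, hNgm.symm, hg₀, hm, ⟨AlgEquiv.ofBijective Φ ⟨?_, hsurj⟩⟩⟩
  intro x y hxy
  obtain ⟨x', rfl⟩ := ψ.surjective x
  obtain ⟨y', rfl⟩ := ψ.surjective y
  exact congrArg ψ (hbij.1 hxy)

end Groth.Agent.CycCovGeo
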