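import Mathlib.RingTheory.Etale.Basic
import Mathlib.RingTheory.AdjoinRoot
import Mathlib.RingTheory.FinitePresentation
import Mathlib.Algebra.TrivSqZeroExt.Basic
import Mathlib.Algebra.MvPolynomial.Eval
import Mathlib.RingTheory.RingHom.Etale

/-!
# Replacing an etale coordinate by a root

Let `C` be etale over `k[x]`, `∂` the derivation dual to `x_a` and `D = C[s]/(s^m - c)`. Where `∂ c` is
invertible, `D` is etale over `k[x]` through the coordinates with `x_a` replaced by `s`.
-/

universe u

namespace Groth.Agent.CycCovGeo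

open Polynomial (X C)

theorem existsUnique_lift_ringHom {P C' : Type u} [CommRing P] [CommRing C'] [Algebra P C']
    [Algebra.FormallyEtale P C'] {R' : Type u} [CommRing R'] (I : Ideal R') (hI : I ^ 2 = ⊥) (r : P →+* R')
    (g : C' →+* R' ⧸ I) (h : g.comp (algebraMap P C') = (Ideal.Quotient.mk I).comp r) :
    ∃! θ : C' →+* R', θ.comp (algebraMap P C') = r ∧ (Ideal.Quotient.mk I).comp θ = g := by
  let : Algebra P R' := r.toAlgebra
  let g' : C' →ₐ[P] R' ⧸ I := { g with commutes' := fun p => RingHom.congr_fun h p }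
  obtain ⟨hinj, hsur⟩ := Algebra.FormallyEtale.comp_bijective P C' I hI
  obtain ⟨θ, hθ⟩ := hsur g'
  refine ⟨θ.toRingHom, ⟨RingHom.ext θ.commutes, RingHom.ext fun c => AlgHom.congr_fun hθ c⟩, ?_⟩
  rintro θ' ⟨h1, h2⟩
  let θ'' : C' →ₐ[P] R' := { θ' with commutes' := fun p => RingHom.congr_fun h1 p }
  have : θ'' = θ := hinj (by rw [hθ]; exact AlgHom.ext fun c => RingHom.congr_fun h2 c)
  exact RingHom.ext fun c => AlgHom.congr_fun this c

variable {k : Type u} [CommRing k] {ι : Type u} {C' : Type u} [CommRing C'] [Algebra (MvPolynomial ι k) C']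

/-- A first order variation of the coordinate `a`. -/
structure IsPartial (a : ι) (d : C' → C') : Prop where
  exists_hom : ∀ {R' : Type u} [_inst : CommRing R'] (θ : C' →+* R') (δ : R'), δ * δ = 0 →
    ∃ θ' : C' →+* R', ∀ c, θ' c = θ c + δ * θ (d c)
  const : ∀ b : k, d (algebraMap (MvPolynomial ι k) C' (MvPolynomial.C b : MvPolynomial ι k)) = 0
  coord_self : d (algebraMap (MvPolynomial ι k) C' (MvPolynomial.X a : MvPolynomial ι k)) = 1
  coord_ne : ∀ i, i ≠ a → d (algebraMap (MvPolynomial ι k) C' (MvPolynomial.X i : MvPolynomial ι k)) = 0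
  mul : ∀ c c', d (c * c') = c * d c' + d c * c'

theorem exists_isPartial [Algebra.FormallyEtale (MvPolynomial ι k) C'] (a : ι) :
    ∃ d : C' → C', IsPartial (k := k) a d := by
  classical
  let r : MvPolynomial ι k →+* (TrivSqZeroExt C' C') := MvPolynomial.eval₂Hom
    ((TrivSqZeroExt.inlHom C' C').comp ((algebraMap (MvPolynomial ι k) C').comp MvPolynomial.C))
    fun i => TrivSqZeroExt.inl (algebraMap (MvPolynomial ι k) C' (MvPolynomial.X i)) + TrivSqZeroExt.inr (if i = a then (1 : C') else 0)
  let pr : (TrivSqZeroExt C' C') →+* C' := (TrivSqZeroExt.fstHom C' C' C').toRingHom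
  let I : Ideal (TrivSqZeroExt C' C') := RingHom.ker pr
  have hI : I ^ 2 = ⊥ := by
    rw [eq_bot_iff, pow_two, Ideal.mul_le]
    intro x hx y hy
    have hx' : x.fst = 0 := hx
    have hy' : y.fst = 0 := hy
    exact TrivSqZeroExt.ext (by simp [TrivSqZeroExt.fst_mul, hx', hy']) (by simp [TrivSqZeroExt.snd_mul, hx', hy'])
  have hsurj : Function.Surjective pr := fun c => ⟨TrivSqZeroExt.inl c, rfl⟩
  let e := RingHom.quotientKerEquivOfSurjective hsurj
  obtain ⟨L, ⟨hL1, hL2⟩, -⟩ := existsUnique_lift_ringHom I hI r e.symm.toRingHom (by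
    refine MvPolynomial.ringHom_ext (fun b => ?_) fun i => ?_
    · apply e.injective
      simp only [RingHom.comp_apply, RingEquiv.toRingHom_eq_coe, RingHom.coe_coe, RingEquiv.apply_symm_apply]
      rw [show e (Ideal.Quotient.mk I _) = pr _ from RingHom.quotientKerEquivOfSurjective_apply_mk hsurj _]
      simp [r, pr]
    · apply e.injective
      simp only [RingHom.comp_apply, RingEquiv.toRingHom_eq_coe, RingHom.coe_coe, RingEquiv.apply_symm_apply]
      rw [show e (Ideal.Quotient.mk I _) = pr _ from RingHom.quotientKerEquivOfSurjective_apply_mk hsurj _]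
      simp [r, pr])
  have hfst : ∀ c, (L c).fst = c := fun c => by
    have h := congrArg e (RingHom.congr_fun hL2 c)
    rw [RingHom.comp_apply, show e (Ideal.Quotient.mk I _) = pr _ from RingHom.quotientKerEquivOfSurjective_apply_mk hsurj _,
      RingEquiv.toRingHom_eq_coe, RingHom.coe_coe, RingEquiv.apply_symm_apply] at h
    exact h
  have hmul : ∀ c c', (L (c * c')).snd = c * (L c').snd + (L c).snd * c' := fun c c' => by
    rw [map_mul, TrivSqZeroExt.snd_mul, hfst, hfst]; simp [mul_comm]
  refine ⟨fun c => (L c).snd, ⟨fun {R'} _ θ δ hδ => ?_, fun b => ?_, ?_, fun i hi => ?_, hmul⟩⟩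
  · refine ⟨{ toFun := fun c => θ c + δ * θ (L c).snd
              map_one' := by simp
              map_zero' := by simp
              map_add' := fun c c' => by simp only [map_add, TrivSqZeroExt.snd_add]; ring
              map_mul' := fun c c' => by
                rw [hmul]
                simp only [map_add, map_mul]
                linear_combination (-(θ (L c).snd) * θ (L c').snd) * hδ }, fun c => rfl⟩
  · show (L _).snd = 0
    rw [← RingHom.comp_apply L, hL1]; simp [r]
  · show (L _).snd = _
    rw [← RingHom.comp_apply L, hL1]; simp [r]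
  · show (L _).snd = _
    rw [← RingHom.comp_apply L, hL1]; simp [r, hi]

variable [Algebra.Etale (MvPolynomial ι k) C']

/-- The root with the other coordinates. -/
noncomputable def swapHom (a : ι) (m : ℕ) (c : C') : MvPolynomial ι k →+* AdjoinRoot (X ^ m - C c) :=
  open Classical in
  MvPolynomial.eval₂Hom ((AdjoinRoot.of _).comp ((algebraMap (MvPolynomial ι k) C').comp MvPolynomial.C))
    (Function.update (fun i => AdjoinRoot.of _ (algebraMap (MvPolynomial ι k) C' (MvPolynomial.X i))) a
      (AdjoinRoot.root _))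

theorem swapHom_C (a : ι) (m : ℕ) (c : C') (b : k) : swapHom (k := k) a m c (MvPolynomial.C b) =
    AdjoinRoot.of _ (algebraMap (MvPolynomial ι k) C' (MvPolynomial.C b)) := by
  rw [swapHom, MvPolynomial.eval₂Hom_C]; rfl

theorem swapHom_X_self (a : ι) (m : ℕ) (c : C') :
    swapHom (k := k) a m c (MvPolynomial.X a) = AdjoinRoot.root _ := by
  classical
  rw [swapHom, MvPolynomial.eval₂Hom_X', Function.update_self]

theorem swapHom_X_ne (a : ι) (m : ℕ) (c : C') {i : ι} (hi : i ≠ a) : swapHom (k := k) a m c (MvPolynomial.X i) =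
    AdjoinRoot.of _ (algebraMap (MvPolynomial ι k) C' (MvPolynomial.X i)) := by
  classical
  rw [swapHom, MvPolynomial.eval₂Hom_X', Function.update_of_ne hi]

theorem etale_swapHom [Finite ι] (a : ι) (m : ℕ) (c : C') {d : C' → C'} (hd : IsPartial (k := k) (C' := C') a d)
    (E : Type u) [CommRing E] [Algebra (AdjoinRoot (X ^ m - C c)) E]
    [IsLocalization.Away (AdjoinRoot.of (X ^ m - C c) (d c)) E] :
    ((algebraMap (AdjoinRoot (X ^ m - C c)) E).comp (swapHom (k := k) a m c)).Etale := by
  classical
  let D := AdjoinRoot (X ^ m - C c)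
  let ψ : (MvPolynomial ι k) →+* E := (algebraMap D E).comp (swapHom (k := k) a m c)
  let : Algebra (MvPolynomial ι k) E := ψ.toAlgebra
  let γ : C' →+* E := (algebraMap D E).comp (AdjoinRoot.of _)
  set s : E := algebraMap D E (AdjoinRoot.root _) with hs
  have hsm : s ^ m = γ c := by
    have h := AdjoinRoot.eval₂_root (X ^ m - C c)
    rw [Polynomial.eval₂_sub, Polynomial.eval₂_X_pow, Polynomial.eval₂_C, sub_eq_zero] at h
    rw [hs, ← map_pow, h]; rfl
  have hψC : ∀ b, ψ (MvPolynomial.C b) = γ (algebraMap (MvPolynomial ι k) C' (MvPolynomial.C b)) := fun b => by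
    show algebraMap D E (swapHom (k := k) a m c (MvPolynomial.C b)) = _
    rw [swapHom, MvPolynomial.eval₂Hom_C]; rfl
  have hψa : ψ (MvPolynomial.X a) = s := by
    show algebraMap D E (swapHom (k := k) a m c (MvPolynomial.X a)) = _
    rw [swapHom, MvPolynomial.eval₂Hom_X', Function.update_self]
  have hψi : ∀ i, i ≠ a → ψ (MvPolynomial.X i) = γ (algebraMap (MvPolynomial ι k) C' (MvPolynomial.X i)) := fun i hi => by
    show algebraMap D E (swapHom (k := k) a m c (MvPolynomial.X i)) = _
    rw [swapHom, MvPolynomial.eval₂Hom_X', Function.update_of_ne hi]; rfl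
  have hext : ∀ {R' : Type u} [CommRing R'] (g g' : E →+* R'), g.comp γ = g'.comp γ → g s = g' s → g = g' := by
    intro R' _ g g' h1 h2
    refine IsLocalization.ringHom_ext (Submonoid.powers (AdjoinRoot.of (X ^ m - C c) (d c))) ?_
    refine RingHom.ext fun x => ?_
    induction x using AdjoinRoot.induction_on with
    | ih q =>
      induction q using Polynomial.induction_on with
      | C b => exact RingHom.congr_fun h1 b
      | add p q hp hq => rw [map_add, map_add, map_add, hp, hq]
      | monomial n b _ =>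
        simp only [map_mul, map_pow, AdjoinRoot.mk_C, AdjoinRoot.mk_X, RingHom.comp_apply]
        rw [show g (algebraMap D E (AdjoinRoot.root _)) = g' (algebraMap D E (AdjoinRoot.root _)) from h2,
          show g (algebraMap D E (AdjoinRoot.of _ b)) = g' (algebraMap D E (AdjoinRoot.of _ b)) from RingHom.congr_fun h1 b]
  refine (RingHom.etale_algebraMap (R := (MvPolynomial ι k)) (S := E)).2 ⟨?_, ?_⟩
  · refine Algebra.FormallyEtale.iff_comp_bijective.2 fun R' _ _ I hI => ?_
    have hsq : ∀ δ ∈ I, δ * δ = 0 := fun δ hδ => by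
      have : δ * δ ∈ I ^ 2 := by rw [pow_two]; exact Ideal.mul_mem_mul hδ hδ
      rwa [hI, Ideal.mem_bot] at this
    have hnil : ∀ x ∈ I, IsNilpotent x := fun x hx => ⟨2, by rw [pow_two]; exact hsq x hx⟩
    have hunitE : IsUnit (γ (d c)) := IsLocalization.Away.algebraMap_isUnit _
    -- the data attached to a map to the quotient
    have key : ∀ gb : E →ₐ[(MvPolynomial ι k)] R' ⧸ I, ∃! g : E →ₐ[(MvPolynomial ι k)] R', (Ideal.Quotient.mkₐ (MvPolynomial ι k) I).comp g = gb := by
      intro gb
      set r : (MvPolynomial ι k) →+* R' := algebraMap (MvPolynomial ι k) R' with hr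
      have hgb : ∀ p, gb (ψ p) = Ideal.Quotient.mk I (r p) := fun p => gb.commutes p
      obtain ⟨z, hz⟩ := Ideal.Quotient.mk_surjective (gb (γ (algebraMap (MvPolynomial ι k) C' (MvPolynomial.X a))))
      let r' : (MvPolynomial ι k) →+* R' := MvPolynomial.eval₂Hom (r.comp MvPolynomial.C)
        (Function.update (fun i => r (MvPolynomial.X i)) a z)
      obtain ⟨θ, ⟨hθ1, hθ2⟩, hθu⟩ := existsUnique_lift_ringHom (C' := C') I hI r' (gb.toRingHom.comp γ) (by
        refine MvPolynomial.ringHom_ext (fun b => ?_) fun i => ?_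
        · show gb (γ _) = _
          rw [← hψC, hgb]; simp only [r', MvPolynomial.eval₂Hom_C, MvPolynomial.eval₂Hom_X', Function.update_self, RingHom.comp_apply, mul_zero, map_zero, add_zero]
        · show gb (γ _) = _
          by_cases hi : i = a
          · subst hi; rw [← hz]; simp only [r', MvPolynomial.eval₂Hom_C, MvPolynomial.eval₂Hom_X', Function.update_self, RingHom.comp_apply, mul_zero, map_zero, add_zero]
          · rw [← hψi i hi, hgb]; simp only [r', MvPolynomial.eval₂Hom_X', Function.update_of_ne hi, RingHom.comp_apply, mul_zero, map_zero, add_zero])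
      set σ : R' := r (MvPolynomial.X a) with hσ
      have hu : IsUnit (θ (d c)) := by
        refine (IsNilpotent.isUnit_quotient_mk_iff (I := I) ⟨2, hI⟩).1 ?_
        rw [show Ideal.Quotient.mk I (θ (d c)) = gb (γ (d c)) from RingHom.congr_fun hθ2 _]
        exact hunitE.map gb
      obtain ⟨w, hw⟩ := hu
      set δ₀ : R' := (σ ^ m - θ c) * ↑w⁻¹ with hδ₀
      have hδI : δ₀ ∈ I := Ideal.mul_mem_right _ _ (by
        rw [← Ideal.Quotient.eq_zero_iff_mem, map_sub, map_pow, hσ, ← hgb, hψa, ← map_pow, hsm,
          show Ideal.Quotient.mk I (θ c) = gb (γ c) from RingHom.congr_fun hθ2 _, sub_self])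
      obtain ⟨θ', hθ'⟩ := hd.exists_hom θ δ₀ (hsq _ hδI)
      have hθ'c : θ' c = σ ^ m := by
        rw [hθ', hδ₀, ← hw, mul_assoc, Units.inv_mul, mul_one, add_sub_cancel]
      let gD : D →+* R' := AdjoinRoot.lift θ' σ (by
        rw [Polynomial.eval₂_sub, Polynomial.eval₂_X_pow, Polynomial.eval₂_C, hθ'c, sub_self])
      have hθ'mk : ∀ x, Ideal.Quotient.mk I (θ' x) = gb (γ x) := fun x => by
        rw [hθ', map_add, map_mul, Ideal.Quotient.eq_zero_iff_mem.2 hδI, zero_mul, add_zero]
        exact RingHom.congr_fun hθ2 x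
      have hgu : IsUnit (gD (AdjoinRoot.of _ (d c))) := by
        refine (IsNilpotent.isUnit_quotient_mk_iff (I := I) ⟨2, hI⟩).1 ?_
        rw [AdjoinRoot.lift_of, hθ'mk]
        exact hunitE.map gb
      let g : E →+* R' := IsLocalization.Away.lift (AdjoinRoot.of (X ^ m - C c) (d c)) hgu
      have hgγ : ∀ x, g (γ x) = θ' x := fun x => by
        show g (algebraMap D E _) = _
        rw [IsLocalization.Away.lift_eq, AdjoinRoot.lift_of]
      have hgs : g s = σ := by
        show g (algebraMap D E _) = _
        rw [IsLocalization.Away.lift_eq, AdjoinRoot.lift_root]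
      have hθ'P : ∀ p, θ' (algebraMap (MvPolynomial ι k) C' p) = r' p + δ₀ * θ (d (algebraMap (MvPolynomial ι k) C' p)) := fun p => by
        rw [hθ', show θ (algebraMap (MvPolynomial ι k) C' p) = r' p from RingHom.congr_fun hθ1 p]
      have hgψ : g.comp ψ = r := by
        refine MvPolynomial.ringHom_ext (fun b => ?_) fun i => ?_
        · rw [RingHom.comp_apply, hψC, hgγ, hθ'P, hd.const]; simp only [r', MvPolynomial.eval₂Hom_C, MvPolynomial.eval₂Hom_X', Function.update_self, RingHom.comp_apply, mul_zero, map_zero, add_zero]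
        · by_cases hi : i = a
          · subst hi; rw [RingHom.comp_apply, hψa, hgs]
          · rw [RingHom.comp_apply, hψi i hi, hgγ, hθ'P, hd.coord_ne i hi]
            simp only [r', MvPolynomial.eval₂Hom_X', Function.update_of_ne hi, RingHom.comp_apply, mul_zero, map_zero, add_zero]
      refine ⟨{ g with commutes' := fun p => RingHom.congr_fun hgψ p }, ?_, ?_⟩
      · refine AlgHom.coe_ringHom_injective (hext _ _ (RingHom.ext fun x => ?_) ?_)
        · show Ideal.Quotient.mk I (g (γ x)) = gb (γ x)
          rw [hgγ, hθ'mk]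
        · show Ideal.Quotient.mk I (g s) = gb s
          rw [hgs, ← hψa, hgb]
      · intro g₁ hg₁
        have hg₁' : ∀ x, Ideal.Quotient.mk I (g₁ x) = gb x := fun x => AlgHom.congr_fun hg₁ x
        have hg₁ψ : ∀ p, g₁ (ψ p) = r p := fun p => g₁.commutes p
        set δ : R' := g₁ (γ (algebraMap (MvPolynomial ι k) C' (MvPolynomial.X a))) - z with hδ
        have hδI' : δ ∈ I := by
          rw [← Ideal.Quotient.eq_zero_iff_mem, hδ, map_sub, hg₁', hz, sub_self]
        obtain ⟨θ₁, hθ₁⟩ := hd.exists_hom θ δ (hsq _ hδI')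
        obtain ⟨θ₂, -, hu₂⟩ := existsUnique_lift_ringHom (C' := C') I hI
          ((g₁.toRingHom.comp γ).comp (algebraMap (MvPolynomial ι k) C')) (gb.toRingHom.comp γ)
          (RingHom.ext fun p => (hg₁' _).symm)
        have e1 := hu₂ (g₁.toRingHom.comp γ) ⟨rfl, RingHom.ext fun x => hg₁' _⟩
        have e2 := hu₂ θ₁ ⟨MvPolynomial.ringHom_ext
          (fun b => by
            show θ₁ _ = g₁ (γ (algebraMap (MvPolynomial ι k) C' _))
            rw [hθ₁, show θ (algebraMap (MvPolynomial ι k) C' (MvPolynomial.C b)) = r' (MvPolynomial.C b) from RingHom.congr_fun hθ1 _,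
              hd.const, ← hψC, hg₁ψ]
            simp only [r', MvPolynomial.eval₂Hom_C, MvPolynomial.eval₂Hom_X', Function.update_self, RingHom.comp_apply, mul_zero, map_zero, add_zero])
          (fun i => by
            show θ₁ _ = g₁ (γ (algebraMap (MvPolynomial ι k) C' _))
            rw [hθ₁, show θ (algebraMap (MvPolynomial ι k) C' (MvPolynomial.X i)) = r' (MvPolynomial.X i) from RingHom.congr_fun hθ1 _,
              ]
            by_cases hi : i = a
            · subst hi; rw [hd.coord_self]; simp only [r', MvPolynomial.eval₂Hom_X', Function.update_self, hδ, map_one, mul_one]; ring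
            · rw [hd.coord_ne i hi, ← hψi i hi, hg₁ψ]; simp only [r', MvPolynomial.eval₂Hom_X', Function.update_of_ne hi, mul_zero, map_zero, add_zero]),
          RingHom.ext fun x => by
            show Ideal.Quotient.mk I (θ₁ x) = _
            rw [hθ₁, map_add, map_mul, Ideal.Quotient.eq_zero_iff_mem.2 hδI', zero_mul, add_zero]
            exact RingHom.congr_fun hθ2 x⟩
        have hg₁γ : ∀ x, g₁ (γ x) = θ x + δ * θ (d x) := fun x => by
          rw [← hθ₁]; exact RingHom.congr_fun (e1.trans e2.symm) x
        have hδeq : δ = δ₀ := by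
          have h1 : σ ^ m = θ c + δ * θ (d c) := by
            rw [← hg₁γ, ← hsm, map_pow, ← hψa, hg₁ψ]
          rw [hδ₀, h1, add_sub_cancel_left, ← hw, mul_assoc, Units.mul_inv, mul_one]
        refine AlgHom.coe_ringHom_injective (hext _ _ (RingHom.ext fun x => ?_) ?_)
        · show g₁ (γ x) = g (γ x)
          rw [hgγ, hg₁γ, hθ', hδeq]
        · show g₁ s = g s
          rw [hgs, ← hψa, hg₁ψ]
    exact ⟨fun g₁ g₂ h => (key ((Ideal.Quotient.mkₐ (MvPolynomial ι k) I).comp g₂)).unique h rfl,
      fun gb => (key gb).exists⟩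
  · let : Algebra k C' := ((algebraMap (MvPolynomial ι k) C').comp MvPolynomial.C).toAlgebra
    have : IsScalarTower k (MvPolynomial ι k) C' := IsScalarTower.of_algebraMap_eq' rfl
    have : Algebra.FinitePresentation k C' := Algebra.FinitePresentation.trans k (MvPolynomial ι k) C'
    let : Algebra C' E := γ.toAlgebra
    let : Algebra k E := (γ.comp (algebraMap k C')).toAlgebra
    have : IsScalarTower k C' E := IsScalarTower.of_algebraMap_eq' rfl
    have : IsScalarTower C' D E := IsScalarTower.of_algebraMap_eq' rfl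
    have : IsScalarTower k (MvPolynomial ι k) E := IsScalarTower.of_algebraMap_eq fun b => (hψC b).symm
    have : Algebra.FinitePresentation C' D :=
      Algebra.FinitePresentation.of_surjective (f := AdjoinRoot.mkₐ (X ^ m - C c)) AdjoinRoot.mk_surjective
        (by rw [show RingHom.ker (AdjoinRoot.mkₐ (X ^ m - C c)).toRingHom = Ideal.span {X ^ m - C c} from Ideal.mk_ker]
            exact Submodule.fg_span_singleton _)
    have : Algebra.FinitePresentation D E :=
      IsLocalization.Away.finitePresentation (AdjoinRoot.of (X ^ m - C c) (d c))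
    have : Algebra.FinitePresentation C' E := Algebra.FinitePresentation.trans C' D E
    have : Algebra.FinitePresentation k E := Algebra.FinitePresentation.trans k C' E
    exact Algebra.FinitePresentation.of_restrict_scalars_finitePresentation k (MvPolynomial ι k) E

end Groth.Agent.CycCovGeo
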