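import Groth.Agent.CycCovGeo.Etale
import Groth.Agent.CycCovGeo.SingleBranch
import Groth.Agent.CycCovGeo.Swap
import Groth.Agent.ModPairLib.Basic

/-!
# Etale coordinates on a normalised cyclic cover with at most one branch through a point
-/

universe u

open CategoryTheory AlgebraicGeometry Opposite TopologicalSpace

namespace Groth.Agent.CycCovGeo

theorem CoverAlg.single {B R : Type*} [CommRing B] [CommRing R] [Algebra B R] {ι : Type*} [Fintype ι]
    {g : ι → B} {α : ι → ℕ} {u : Bˣ} {N : ℕ} {t : R} (H : CoverAlg g α u N t) (j₀ : ι)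
    (hone : ∀ j, j ≠ j₀ → 0 < α j → g j = 1) :
    CoverAlg (fun _ : Fin 1 => g j₀) (fun _ => α j₀) u N t := by
  refine ⟨?_, H.torsionFree, H.indep, H.span, H.integral, H.root⟩
  rw [H.pow, Finset.prod_eq_single j₀, Fintype.prod_unique]
  · intro j _ hj
    rcases (α j).eq_zero_or_pos with h | h
    · rw [h, pow_zero]
    · rw [hone j hj h, one_pow]
  · simp

theorem Branches.single {B : Type*} [CommRing B] {ι : Type*} {g : ι → B} (hg : Branches g) (j₀ : ι) :
    Branches fun _ : Fin 1 => g j₀ :=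
  ⟨fun _ => hg.ne_zero j₀, fun _ => hg.radical j₀, fun a b _ h => absurd (Subsingleton.elim a b) h⟩

theorem scal_comp {k : Type u} [CommRing k] {X Y : Scheme.{u}} (f : X ⟶ Spec (CommRingCat.of k)) (π : Y ⟶ X)
    {U : X.Opens} {V : Y.Opens} (h : V ≤ π ⁻¹ᵁ U) (c : k) :
    scal (π ≫ f) V c = π.appLE U V h (scal f U c) := by
  simp only [scal, CommRingCat.hom_comp, RingHom.comp_apply]
  exact (congr($(Scheme.Hom.appLE_comp_appLE π f ⊤ U V (le_top : U ≤ f ⁻¹ᵁ ⊤) h)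
    ((Scheme.ΓSpecIso (CommRingCat.of k)).inv c))).symm

theorem etale_res {Y : Scheme.{u}} {V W : Y.affineOpens} (h : V.1 ≤ W.1) :
    (Y.presheaf.map (homOfLE h).op).hom.Etale := by
  have := HasRingHomProperty.appLE (P := @Etale) (𝟙 Y) inferInstance W V h
  have e : (𝟙 Y : Y ⟶ Y).appLE W.1 V.1 h = Y.presheaf.map (homOfLE h).op := by
    simp only [Scheme.Hom.appLE, Scheme.Hom.id_app]; exact Category.id_comp _
  rwa [e] at this

theorem exists_affine_le' {Y : Scheme.{u}} (V : Y.Opens) {y : Y} (hy : y ∈ V) :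
    ∃ U : Y.affineOpens, y ∈ U.1 ∧ U.1 ≤ V := exists_affine_le V hy

variable {k : Type u} [Field k] [IsAlgClosed k] {X Y : Scheme.{u}} {L : X.Modules} {N : ℕ}
  {s : Coh.structureModule X ⟶ CohB1.tensorPow L N} {π : Y ⟶ X}

theorem appLE_res {U : X.Opens} {V W : Y.Opens} (hW : W ≤ π ⁻¹ᵁ U) (hVW : V ≤ W) (c : Γ(X, U)) :
    Y.presheaf.map (homOfLE hVW).op (π.appLE U W hW c) = π.appLE U V (hVW.trans hW) c := by
  rw [← CommRingCat.comp_apply, Scheme.Hom.appLE_map]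

set_option maxHeartbeats 2000000 in
/-- Near a point of the cover over which at most one branch passes there are etale coordinates in which
the preimages of the components are powers of coordinates. -/
theorem exists_coords [IsIntegral X] (f : X ⟶ Spec (CommRingCat.of k)) [Smooth f]
    (hL : PicF.IsInvertible L) (hN : 0 < N) (hNk : (N : k) ≠ 0) {r : ℕ} {D : Fin r → X.IdealSheafData}
    {α : Fin r → ℕ} (hD : LogNCD.IsNCD D f)
    (hs : CycCov.IsZeroDiv (CohB1.tensorPow L N) s (CycCov.divIdeal D α))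
    {R : CycCov.Root L N s π} (hR : CycCov.IsCover R) (y : Y)
    (hone : ∀ j j' : Fin r, 0 < α j → 0 < α j' → π y ∈ (D j).support → π y ∈ (D j').support → j = j')
    (hT : Nonempty (LogNCD.Through D (π y))) (V : Y.Opens) (hy : y ∈ V) :
    ∃ (V₀ : Y.affineOpens) (_ : y ∈ V₀.1) (n : ℕ) (v : ULift.{u} (Fin n) → Γ(Y, V₀.1))
      (idx : LogNCD.Through D (π y) → ULift.{u} (Fin n)),
      V₀.1 ≤ V ∧ Function.Injective idx ∧ (MvPolynomial.eval₂Hom (scal (π ≫ f) V₀.1) v).Etale ∧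
      (∀ j, ((D j.1).comap π).ideal V₀ = Ideal.span {v (idx j) ^ (N / Nat.gcd N (α j.1))}) ∧
      ∀ j, π y ∉ (D j).support → ((D j).comap π).ideal V₀ = ⊤ := by
  classical
  have : IsFinite π := hR.1
  set x := π y with hx
  obtain ⟨U, g, e, -, hU, he⟩ := exists_frame_nice hD hL x ⊤ trivial
  obtain ⟨n, v, idx, hidx, hv, hgv⟩ := hU.coords hT
  have : Nonempty U.1 := ⟨⟨x, hU.mem⟩⟩
  have := isIntegrallyClosed_sections f U.2
  have hA : IsAffineOpen (π ⁻¹ᵁ U.1) := U.2.preimage π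
  have hyU : y ∈ π ⁻¹ᵁ U.1 := hU.mem
  let φ : MvPolynomial (ULift.{u} (Fin n)) k →+* Γ(X, U.1) := MvPolynomial.eval₂Hom (scal f U.1) v
  -- ideals on a small open
  have hideal : ∀ (V₀ : Y.affineOpens) (h : V₀.1 ≤ π ⁻¹ᵁ U.1) (j : Fin r),
      ((D j).comap π).ideal V₀ = Ideal.span {π.appLE U.1 V₀.1 h (g j)} := fun V₀ h j => by
    rw [ModPairLib.ideal_comap (D j) π U V₀ h, hU.ideal, Ideal.map_span, Set.image_singleton]
  have hmiss : ∀ (V₀ : Y.affineOpens) (_ : V₀.1 ≤ π ⁻¹ᵁ U.1) (j : Fin r), x ∉ (D j).support →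
      ((D j).comap π).ideal V₀ = ⊤ := fun V₀ h j hj => by
    rw [hideal V₀ h, hU.miss j hj, map_one, Ideal.span_singleton_one]
  have he0 : ∀ j, α j = 0 → N / Nat.gcd N (α j) = 1 := fun j h => by rw [h, Nat.gcd_zero_right, Nat.div_self hN]
  by_cases hb : ∃ j, 0 < α j ∧ x ∈ (D j).support
  swap
  · -- no branch: the cover is etale
    push Not at hb
    have hα0 : ∀ j : LogNCD.Through D x, α j.1 = 0 := fun j =>
      Nat.eq_zero_of_not_pos fun h => hb j.1 h j.2
    have het := etale_app_of_nice (k := k) f hN hNk hs hR hU he fun j hj => hU.miss j (hb j hj)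
    obtain ⟨V₀, hyV₀, hle⟩ := exists_affine_le' (V ⊓ π ⁻¹ᵁ U.1) (y := y) ⟨hy, hyU⟩
    have hV₀ : V₀.1 ≤ π ⁻¹ᵁ U.1 := hle.trans inf_le_right
    refine ⟨V₀, hyV₀, n, fun i => π.appLE U.1 V₀.1 hV₀ (v i), idx, hle.trans inf_le_left, hidx, ?_, fun j => ?_,
      fun j hj => hmiss V₀ hV₀ j hj⟩
    · have h1 : MvPolynomial.eval₂Hom (scal (π ≫ f) V₀.1) (fun i => π.appLE U.1 V₀.1 hV₀ (v i)) =
          ((Y.presheaf.map (homOfLE hV₀).op).hom.comp (π.app U.1).hom).comp φ :=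
        MvPolynomial.ringHom_ext
          (fun b => by
            simp only [φ, RingHom.comp_apply, MvPolynomial.eval₂Hom_C]
            exact scal_comp f π hV₀ b)
          (fun i => by simp only [φ, RingHom.comp_apply, MvPolynomial.eval₂Hom_X']; rfl)
      rw [h1]
      exact RingHom.Etale.stableUnderComposition φ _ hv
        (RingHom.Etale.stableUnderComposition _ _ het (etale_res (W := ⟨_, hA⟩) hV₀))
    · rw [hideal V₀ hV₀, he0 j.1 (hα0 j), pow_one, hgv]
  obtain ⟨j₀, hj₀, hxj₀⟩ := hb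
  obtain ⟨u, hu⟩ := exists_unit_coeff hU he hs
  let : Algebra Γ(X, U.1) Γ(Y, π ⁻¹ᵁ U.1) := (π.app U.1).hom.toAlgebra
  have hg1 : ∀ j, j ≠ j₀ → 0 < α j → g j = 1 := fun j hne hj =>
    hU.miss j fun h => hne (hone j j₀ hj hj₀ h hxj₀)
  have H := (coverAlg (R := R) hN hR U he hu).single j₀ hg1
  obtain ⟨ζ, hζ⟩ := exists_primitiveRoot f U.1 hNk
  obtain ⟨g₀, m, i₀, hgdef, hgm, hg₀, hm, ⟨Ψ⟩⟩ :=
    H.exists_presentation (hU.branches.single j₀) hN hj₀ (isUnit_natCast f U.1 hNk) hζ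
  have hmdef : N / Nat.gcd N (α j₀) = m := by rw [← hgdef, ← hgm, Nat.mul_div_cancel_left _ hg₀]
  have hg₀B : IsUnit (g₀ : Γ(X, U.1)) :=
    isUnit_of_dvd_unit (Nat.cast_dvd_cast (hgdef ▸ Nat.gcd_dvd_left N (α j₀))) (isUnit_natCast f U.1 hNk)
  let CC := CycCovLib.CC (B := Γ(X, U.1)) g₀ u
  let w : CycCovLib.CC (B := Γ(X, U.1)) g₀ u := AdjoinRoot.root _
  have hw : IsUnit w := CycCovLib.isUnit_root hg₀
  let : Algebra (MvPolynomial (ULift.{u} (Fin n)) k) (CycCovLib.CC (B := Γ(X, U.1)) g₀ u) :=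
    ((algebraMap Γ(X, U.1) (CycCovLib.CC (B := Γ(X, U.1)) g₀ u)).comp φ).toAlgebra
  have : Algebra.Etale (MvPolynomial (ULift.{u} (Fin n)) k) (CycCovLib.CC (B := Γ(X, U.1)) g₀ u) := by
    refine RingHom.etale_algebraMap.1 (RingHom.Etale.stableUnderComposition φ _ hv (RingHom.etale_algebraMap.2 ?_))
    refine Hensel.etale_adjoinRoot (CycCovLib.monic_CC hg₀) ?_
    simp only [Polynomial.derivative_sub, Polynomial.derivative_C, sub_zero, Polynomial.derivative_X_pow,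
      map_mul, map_pow, Polynomial.aeval_X, Polynomial.aeval_C]
    exact (hg₀B.map _).mul (hw.pow _)
  set a := idx ⟨j₀, hxj₀⟩ with ha
  obtain ⟨d, hd⟩ := exists_isPartial (k := k) (C' := CycCovLib.CC (B := Γ(X, U.1)) g₀ u) a
  set c : CycCovLib.CC (B := Γ(X, U.1)) g₀ u := w ^ i₀ * algebraMap Γ(X, U.1) _ (g j₀) with hc
  have hdc : d c = w ^ i₀ + d (w ^ i₀) * algebraMap Γ(X, U.1) _ (g j₀) := by
    rw [hc, hd.mul]
    congr 1
    have h1 : algebraMap Γ(X, U.1) (CycCovLib.CC (B := Γ(X, U.1)) g₀ u) (g j₀) =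
        algebraMap (MvPolynomial (ULift.{u} (Fin n)) k) (CycCovLib.CC (B := Γ(X, U.1)) g₀ u) (MvPolynomial.X a) := by
      show _ = algebraMap Γ(X, U.1) _ (φ (MvPolynomial.X a))
      rw [ha, MvPolynomial.eval₂Hom_X']
      exact congrArg _ (hgv ⟨j₀, hxj₀⟩)
    rw [h1, hd.coord_self, mul_one]
  let J : Γ(Y, π ⁻¹ᵁ U.1) := Ψ (AdjoinRoot.of _ (d c))
  have hyJ : y ∈ Y.basicOpen J := by
    rw [Y.mem_basicOpen J y hyU]
    have hf0 : ¬ IsUnit (Y.presheaf.germ _ y hyU ((π.app U.1).hom (g j₀))) := by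
      intro h
      rw [← Y.mem_basicOpen _ y hyU] at h
      have hxf : x ∈ X.basicOpen (g j₀) := by
        rw [← π.preimage_basicOpen (g j₀)] at h; exact h
      have h2 := (Scheme.IdealSheafData.mem_support_iff_of_mem (I := D j₀) hU.mem).1 hxj₀
      rw [hU.ideal] at h2
      exact (Scheme.mem_zeroLocus_iff _ _ _).1 h2 (g j₀) (Ideal.mem_span_singleton_self _) hxf
    have hJ : J = Ψ (AdjoinRoot.of _ (w ^ i₀)) + Ψ (AdjoinRoot.of _ (d (w ^ i₀))) * (π.app U.1).hom (g j₀) := by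
      simp only [J, hdc, map_add, map_mul]
      congr 2
      exact Ψ.commutes (g j₀)
    have hnon : ∀ z : Y.presheaf.stalk y, ¬ IsUnit z → z ∈ IsLocalRing.maximalIdeal (Y.presheaf.stalk y) := fun z hz => hz
    by_contra hu'
    have h3 : IsUnit (Y.presheaf.germ _ y hyU (Ψ (AdjoinRoot.of _ (w ^ i₀)))) :=
      (((hw.pow i₀).map (AdjoinRoot.of _)).map Ψ).map _
    refine (IsLocalRing.maximalIdeal.isMaximal _).ne_top (Ideal.eq_top_of_isUnit_mem _ ?_ h3)
    have h4 := hnon _ hu'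
    generalize hz1 : Ψ (AdjoinRoot.of _ (w ^ i₀)) = z1 at hJ h3 ⊢
    generalize hz2 : Ψ (AdjoinRoot.of _ (d (w ^ i₀))) = z2 at hJ
    rw [hJ, map_add, map_mul] at h4
    exact (Ideal.add_mem_iff_left _ (Ideal.mul_mem_left _ _ (hnon _ hf0))).1 h4
  have := hA.isLocalization_basicOpen J
  let : Algebra (CycCovLib.DD g₀ u m i₀ (g j₀)) Γ(Y, Y.basicOpen J) :=
    ((algebraMap Γ(Y, π ⁻¹ᵁ U.1) Γ(Y, Y.basicOpen J)).comp Ψ.toRingEquiv.toRingHom).toAlgebra
  have : IsLocalization.Away (AdjoinRoot.of (Polynomial.X ^ m - Polynomial.C c) (d c)) Γ(Y, Y.basicOpen J) := by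
    have h := IsLocalization.isLocalization_of_base_ringEquiv (Submonoid.powers J) Γ(Y, Y.basicOpen J)
      Ψ.toRingEquiv.symm
    have e1 : Submonoid.map Ψ.toRingEquiv.symm (Submonoid.powers J) =
        Submonoid.powers (AdjoinRoot.of (Polynomial.X ^ m - Polynomial.C c) (d c)) := by
      rw [Submonoid.map_powers]
      congr 1
      exact Ψ.symm_apply_apply _
    rw [e1] at h
    exact h
  have hsw := etale_swapHom (k := k) a m c hd Γ(Y, Y.basicOpen J)
  obtain ⟨V₀, hyV₀, hle⟩ := exists_affine_le' (V ⊓ Y.basicOpen J) (y := y) ⟨hy, hyJ⟩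
  have hV₀J : V₀.1 ≤ Y.basicOpen J := hle.trans inf_le_right
  have hV₀ : V₀.1 ≤ π ⁻¹ᵁ U.1 := hV₀J.trans (Y.basicOpen_le J)
  let ρ : Γ(Y, π ⁻¹ᵁ U.1) →+* Γ(Y, V₀.1) := (Y.presheaf.map (homOfLE hV₀).op).hom
  let σ : Γ(Y, V₀.1) := ρ (Ψ (AdjoinRoot.root _))
  let v' : ULift.{u} (Fin n) → Γ(Y, V₀.1) := fun i => if i = a then σ else π.appLE U.1 V₀.1 hV₀ (v i)
  refine ⟨V₀, hyV₀, n, v', idx, hle.trans inf_le_left, hidx, ?_, fun j => ?_, fun j hj => hmiss V₀ hV₀ j hj⟩
  · have hA' : IsAffineOpen (Y.basicOpen J) := hA.basicOpen J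
    have h1 : MvPolynomial.eval₂Hom (scal (π ≫ f) V₀.1) v' =
        (Y.presheaf.map (homOfLE hV₀J).op).hom.comp
          ((algebraMap (CycCovLib.DD g₀ u m i₀ (g j₀)) Γ(Y, Y.basicOpen J)).comp (swapHom (k := k) a m c)) := by
      have hres : ∀ z, (Y.presheaf.map (homOfLE hV₀J).op).hom
          (algebraMap (CycCovLib.DD g₀ u m i₀ (g j₀)) Γ(Y, Y.basicOpen J) z) = ρ (Ψ z) := fun z => by
        show (Y.presheaf.map (homOfLE hV₀J).op) ((Y.presheaf.map (homOfLE (Y.basicOpen_le J)).op) (Ψ z)) = _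
        rw [← CommRingCat.comp_apply, ← Functor.map_comp]
        rfl
      refine MvPolynomial.ringHom_ext (fun b => ?_) fun i => ?_
      · rw [MvPolynomial.eval₂Hom_C]
        refine Eq.trans ?_ (hres _).symm
        rw [swapHom_C]
        show _ = ρ (Ψ (algebraMap Γ(X, U.1) _ (φ (MvPolynomial.C b))))
        rw [AlgEquiv.commutes, MvPolynomial.eval₂Hom_C]
        exact scal_comp f π hV₀ b
      · rw [MvPolynomial.eval₂Hom_X']
        refine Eq.trans ?_ (hres _).symm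
        by_cases hi : i = a
        · subst hi
          rw [swapHom_X_self]
          simp only [v', if_true]
          rfl
        · rw [swapHom_X_ne a m c hi]
          simp only [v', if_neg hi]
          show _ = ρ (Ψ (algebraMap Γ(X, U.1) _ (φ (MvPolynomial.X i))))
          rw [AlgEquiv.commutes, MvPolynomial.eval₂Hom_X']
          rfl
    rw [h1]
    exact RingHom.Etale.stableUnderComposition _ _ hsw (etale_res (W := ⟨_, hA'⟩) hV₀J)
  · rw [hideal V₀ hV₀]
    by_cases hj : j.1 = j₀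
    · obtain rfl : j = ⟨j₀, hxj₀⟩ := Subtype.ext hj
      rw [hmdef]
      simp only [v', ← ha, if_true]
      have h2 : σ ^ m = ρ (Ψ (AdjoinRoot.of _ (w ^ i₀))) * π.appLE U.1 V₀.1 hV₀ (g j₀) := by
        show (ρ (Ψ (AdjoinRoot.root _))) ^ m = _
        have h6 := congrArg (fun z => ρ (Ψ z)) (CycCovLib.rootD_pow g₀ u m i₀ (g j₀))
        simp only [map_pow] at h6
        refine h6.trans ?_
        refine (congrArg (fun z => ρ (Ψ z)) (RingHom.map_mul (algebraMap (CycCovLib.CC (B := Γ(X, U.1)) g₀ u)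
          (CycCovLib.DD g₀ u m i₀ (g j₀))) _ _)).trans ?_
        refine (congrArg ρ (map_mul Ψ _ _)).trans ?_
        refine (RingHom.map_mul ρ _ _).trans ?_
        congr 1
        exact congrArg ρ (Ψ.commutes (g j₀))
      rw [h2, Ideal.span_singleton_mul_left_unit (((hw.pow i₀).map (AdjoinRoot.of _)).map Ψ |>.map ρ)]
    · have hα : α j.1 = 0 := Nat.eq_zero_of_not_pos fun h => hj (hone j.1 j₀ h hj₀ j.2 hxj₀)
      rw [he0 j.1 hα, pow_one, hgv]
      simp only [v', if_neg (show idx j ≠ a from fun h => hj (congrArg Subtype.val (hidx h)))]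

end Groth.Agent.CycCovGeo
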