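import Groth.Agent.CycCovGeo.LocalCover
import Mathlib.AlgebraicGeometry.Morphisms.Smooth
import Mathlib.RingTheory.RingHom.Smooth

/-!
# Smoothness and ramification of a normalised cyclic cover
-/

universe u

open CategoryTheory AlgebraicGeometry Opposite TopologicalSpace

namespace Groth.Agent.CycCovGeo

/-- Two ideal sheaves agreeing near every point of an affine open agree there. -/
theorem ideal_eq_of_local {Y : Scheme.{u}} {I J : Y.IdealSheafData} (V : Y.affineOpens)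
    (H : ∀ y ∈ V.1, ∃ V₀ : Y.affineOpens, y ∈ V₀.1 ∧ V₀.1 ≤ V.1 ∧ I.ideal V₀ = J.ideal V₀) :
    I.ideal V = J.ideal V := by
  have key : ∀ y : V.1, ∃ r : Γ(Y, V.1), y.1 ∈ Y.basicOpen r ∧
      I.ideal (Y.affineBasicOpen r) = J.ideal (Y.affineBasicOpen r) := by
    rintro ⟨y, hy⟩
    obtain ⟨V₀, hy₀, hle, heq⟩ := H y hy
    obtain ⟨r, hr, hyr⟩ := V.2.exists_basicOpen_le ⟨y, hy₀⟩ hy
    refine ⟨r, hyr, ?_⟩
    rw [← I.map_ideal (U := Y.affineBasicOpen r) (V := V₀) hr, ← J.map_ideal (U := Y.affineBasicOpen r) (V := V₀) hr,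
      heq]
  choose r hyr heq using key
  have hspan : Ideal.span (Set.range r) = ⊤ := by
    rw [← V.2.self_le_iSup_basicOpen_iff]
    exact fun y hy => Opens.mem_iSup.2 ⟨⟨_, _, rfl⟩, hyr ⟨y, hy⟩⟩
  have inst := V.2.isLocalization_basicOpen
  have key2 : ∀ I' J' : Y.IdealSheafData, (∀ y, I'.ideal (Y.affineBasicOpen (r y)) = J'.ideal (Y.affineBasicOpen (r y))) →
      I'.ideal V ≤ J'.ideal V := fun I' J' h => by
    refine Submodule.le_of_isLocalized_span _ hspan (fun i ↦ Γ(Y, Y.basicOpen i.1))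
      (fun i ↦ Algebra.linearMap Γ(Y, V.1) Γ(Y, Y.basicOpen i.1)) ?_
    rintro ⟨_, j, rfl⟩
    simp only [← Submodule.restrictScalars_localized' Γ(Y, Y.basicOpen (r j)),
      Ideal.localized'_eq_map, RingHom.algebraMap_toAlgebra]
    erw [I'.map_ideal (U := ⟨_, V.2.basicOpen _⟩) (Y.basicOpen_le (r j)),
      J'.map_ideal (U := ⟨_, V.2.basicOpen _⟩) (Y.basicOpen_le (r j))]
    exact (h j).le
  exact le_antisymm (key2 I J heq) (key2 J I fun y => (heq y).symm)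

theorem smooth_affineSpace_over (R : CommRingCat.{u}) (ι : Type u) [Finite ι] :
    Smooth (𝔸(ι; Spec R) ↘ Spec R) := by
  have : Smooth (Spec.map (CommRingCat.ofHom (MvPolynomial.C : R →+* MvPolynomial ι R))) := by
    rw [HasRingHomProperty.Spec_iff (P := @Smooth)]
    change RingHom.Smooth (algebraMap R (MvPolynomial ι R))
    rw [RingHom.smooth_algebraMap]
    exact { formallySmooth := inferInstance, finitePresentation := inferInstance }
  rw [← Category.id_comp (𝔸(ι; Spec R) ↘ Spec R), ← (AffineSpace.SpecIso ι R).hom_inv_id, Category.assoc,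
    AffineSpace.SpecIso_inv_over]
  exact inferInstanceAs (Smooth (_ ≫ _))

theorem sectOn_topIso_inv {Y : Scheme.{u}} {V U : Y.Opens} (h : U ≤ V) (a : Γ(Y, V)) :
    LogNCD.sectOn V h (V.topIso.inv a) = Y.presheaf.map (homOfLE h).op a := by
  rw [LogNCD.sectOn_apply]
  exact congrArg _ (congr($(V.topIso.inv_hom_id) a))

theorem coordHom_topIso_inv {R : CommRingCat.{u}} {Y : Scheme.{u}} (h : Y ⟶ Spec R) {ι : Type u} (V : Y.Opens)
    (v : ι → Γ(Y, V)) : coordHom h V (fun i => V.topIso.inv (v i)) le_rfl = MvPolynomial.eval₂Hom (scal h V) v := by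
  refine MvPolynomial.ringHom_ext (fun b => ?_) fun i => ?_
  · rw [coordHom, MvPolynomial.eval₂Hom_C, MvPolynomial.eval₂Hom_C]
  · rw [coordHom, MvPolynomial.eval₂Hom_X', MvPolynomial.eval₂Hom_X', sectOn_topIso_inv]
    exact congr($(Y.presheaf.map_id _) (v i))

theorem pow_div_gcd_pos {N : ℕ} (hN : 0 < N) (a : ℕ) : 0 < N / Nat.gcd N a :=
  Nat.div_pos (Nat.gcd_le_left _ hN) (Nat.gcd_pos_of_pos_left _ hN)

variable {k : Type u} [Field k] [IsAlgClosed k] {X Y : Scheme.{u}} {L : X.Modules} {N : ℕ}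
  {s : Coh.structureModule X ⟶ CohB1.tensorPow L N} {π : Y ⟶ X}

theorem comap_divIdeal_ideal {r : ℕ} (D : Fin r → X.IdealSheafData) (α : Fin r → ℕ) (π : Y ⟶ X)
    (U : X.affineOpens) (V : Y.affineOpens) (h : V.1 ≤ π ⁻¹ᵁ U.1) :
    ((CycCov.divIdeal D α).comap π).ideal V = ∏ j, ((D j).comap π).ideal V ^ α j := by
  rw [ModPairLib.ideal_comap _ π U V h, divIdeal_ideal]
  conv_rhs => arg 2; ext j; rw [ModPairLib.ideal_comap (D j) π U V h, ← Ideal.map_pow]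
  exact map_prod (Ideal.mapHom (π.appLE U.1 V.1 h).hom) _ _

section

variable [IsIntegral X] (f : X ⟶ Spec (CommRingCat.of k)) [Smooth f]
  (hL : PicF.IsInvertible L) (hN : 0 < N) (hNk : (N : k) ≠ 0) {r : ℕ} {D : Fin r → X.IdealSheafData}
  {α : Fin r → ℕ} (hD : LogNCD.IsNCD D f) (hs : CycCov.IsZeroDiv (CohB1.tensorPow L N) s (CycCov.divIdeal D α))
  {R : CycCov.Root L N s π} (hR : CycCov.IsCover R)

include hL hN hNk hD hs hR

/-- Away from all components. -/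
theorem exists_away (y : Y) (hT : ¬ Nonempty (LogNCD.Through D (π y))) (V : Y.Opens) (hy : y ∈ V) :
    ∃ V₀ : Y.affineOpens, y ∈ V₀.1 ∧ V₀.1 ≤ V ∧ Smooth (V₀.1.ι ≫ π ≫ f) ∧
      ∀ j, ((D j).comap π).ideal V₀ = ⊤ := by
  have : IsFinite π := hR.1
  obtain ⟨U, g, e, -, hU, he⟩ := exists_frame_nice hD hL (π y) ⊤ trivial
  have hg : ∀ j, g j = 1 := fun j => hU.miss j fun h => hT ⟨⟨j, h⟩⟩
  have het : Etale (π ∣_ U.1) :=
    etale_restrict_of_app π U.2 (etale_app_of_nice f hN hNk hs hR hU he fun j _ => hg j)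
  obtain ⟨V₀, hyV₀, hle⟩ := exists_affine_le (V ⊓ π ⁻¹ᵁ U.1) (x := y) ⟨hy, hU.mem⟩
  have hV₀ : V₀.1 ≤ π ⁻¹ᵁ U.1 := hle.trans inf_le_right
  refine ⟨V₀, hyV₀, hle.trans inf_le_left, ?_, fun j => ?_⟩
  · have e1 : V₀.1.ι ≫ π ≫ f = Y.homOfLE hV₀ ≫ (π ∣_ U.1) ≫ U.1.ι ≫ f := by
      rw [morphismRestrict_ι_assoc, Scheme.homOfLE_ι_assoc]
    rw [e1]
    exact inferInstanceAs (Smooth (_ ≫ _ ≫ _ ≫ _))
  · rw [ModPairLib.ideal_comap (D j) π U V₀ hV₀, hU.ideal, hg, Ideal.span_singleton_one, Ideal.map_top]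

theorem smooth_ι_of_coords {n : ℕ} (V₀ : Y.affineOpens) (v : ULift.{u} (Fin n) → Γ(Y, V₀.1))
    (hv : (MvPolynomial.eval₂Hom (scal (π ≫ f) V₀.1) v).Etale) : Smooth (V₀.1.ι ≫ π ≫ f) := by
  have hcoord := coordHom_topIso_inv (π ≫ f) V₀.1 v
  have : Etale (AffineSpace.homOfVector (V₀.1.ι ≫ π ≫ f) fun i => V₀.1.topIso.inv (v i)) :=
    etale_homOfVector (π ≫ f) V₀ _ (hcoord ▸ hv)
  rw [← AffineSpace.homOfVector_over (V₀.1.ι ≫ π ≫ f) (fun i => V₀.1.topIso.inv (v i))]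
  have := smooth_affineSpace_over (CommRingCat.of k) (ULift.{u} (Fin n))
  exact inferInstanceAs (Smooth (_ ≫ _))

theorem smooth_preimage (W : X.Opens)
    (hW : ∀ x ∈ W, ∀ j j' : Fin r, 0 < α j → 0 < α j' → x ∈ (D j).support → x ∈ (D j').support → j = j') :
    Smooth ((π ⁻¹ᵁ W).ι ≫ π ≫ f) := by
  have key : ∀ y : (π ⁻¹ᵁ W : Y.Opens), ∃ V₀ : Y.affineOpens, y.1 ∈ V₀.1 ∧ V₀.1 ≤ π ⁻¹ᵁ W ∧
      Smooth (V₀.1.ι ≫ π ≫ f) := by
    rintro ⟨y, hy⟩
    by_cases hT : Nonempty (LogNCD.Through D (π y))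
    · obtain ⟨V₀, hyV₀, n, v, idx, hle, -, hv, -⟩ :=
        exists_coords f hL hN hNk hD hs hR y (hW (π y) hy) hT (π ⁻¹ᵁ W) hy
      exact ⟨V₀, hyV₀, hle, smooth_ι_of_coords f hL hN hNk hD hs hR V₀ v hv⟩
    · obtain ⟨V₀, hyV₀, hle, hsm, -⟩ := exists_away f hL hN hNk hD hs hR y hT (π ⁻¹ᵁ W) hy
      exact ⟨V₀, hyV₀, hle, hsm⟩
  choose V₀ hyV₀ hle hsm using key
  have : IsZariskiLocalAtSource @Smooth :=
    HasRingHomProperty.instIsZariskiLocalAtSource (P := @Smooth) (Q := RingHom.Smooth)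
  refine IsZariskiLocalAtSource.of_iSup_eq_top (P := @Smooth) (fun y => (π ⁻¹ᵁ W).ι ⁻¹ᵁ (V₀ y).1)
    (top_le_iff.1 fun y _ => Opens.mem_iSup.2 ⟨y, hyV₀ y⟩) fun y => ?_
  have H : Set.range (((π ⁻¹ᵁ W).ι ⁻¹ᵁ (V₀ y).1).ι ≫ (π ⁻¹ᵁ W).ι) ⊆ Set.range (V₀ y).1.ι := by
    rintro _ ⟨z, rfl⟩
    rw [Scheme.Opens.range_ι]
    exact z.2
  have hfac := IsOpenImmersion.lift_fac (V₀ y).1.ι (((π ⁻¹ᵁ W).ι ⁻¹ᵁ (V₀ y).1).ι ≫ (π ⁻¹ᵁ W).ι) H
  have e : ((π ⁻¹ᵁ W).ι ⁻¹ᵁ (V₀ y).1).ι ≫ (π ⁻¹ᵁ W).ι ≫ π ≫ f =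
      IsOpenImmersion.lift (V₀ y).1.ι (((π ⁻¹ᵁ W).ι ⁻¹ᵁ (V₀ y).1).ι ≫ (π ⁻¹ᵁ W).ι) H ≫ (V₀ y).1.ι ≫ π ≫ f := by
    rw [reassoc_of% hfac]
  rw [e]
  have := hsm y
  exact inferInstanceAs (Smooth (_ ≫ _))

/-- The ideals of the preimages on good affine opens. -/
theorem exists_local_pow (y : Y) (j : Fin r)
    (hone : ∀ j j' : Fin r, 0 < α j → 0 < α j' → π y ∈ (D j).support → π y ∈ (D j').support → j = j')
    (V : Y.Opens) (hy : y ∈ V) :
    ∃ V₀ : Y.affineOpens, y ∈ V₀.1 ∧ V₀.1 ≤ V ∧ ∀ j : Fin r,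
      ((D j).comap π).ideal V₀ = ((((D j).comap π).radical ^ (N / Nat.gcd N (α j))).ideal V₀) := by
  by_cases hT : Nonempty (LogNCD.Through D (π y))
  · obtain ⟨V₀, hyV₀, n, v, idx, hle, hinj, hv, hth, hmiss⟩ := exists_coords f hL hN hNk hD hs hR y hone hT V hy
    refine ⟨V₀, hyV₀, hle, fun j => ?_⟩
    rw [Scheme.IdealSheafData.ideal_pow, Pi.pow_apply, Scheme.IdealSheafData.radical_ideal]
    by_cases hj : π y ∈ (D j).support
    · let : Algebra (MvPolynomial (ULift.{u} (Fin n)) k) Γ(Y, V₀.1) :=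
        (MvPolynomial.eval₂Hom (scal (π ≫ f) V₀.1) v).toAlgebra
      have : Algebra.Etale (MvPolynomial (ULift.{u} (Fin n)) k) Γ(Y, V₀.1) := hv
      have halg : algebraMap (MvPolynomial (ULift.{u} (Fin n)) k) Γ(Y, V₀.1) (MvPolynomial.X (idx ⟨j, hj⟩)) =
          v (idx ⟨j, hj⟩) := MvPolynomial.eval₂Hom_X' _ _ _
      have hred := isReduced_quot (k := k) (C := Γ(Y, V₀.1)) ({idx ⟨j, hj⟩} : Set (ULift.{u} (Fin n)))
      rw [Set.image_singleton] at hred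
      rw [halg] at hred
      rw [hth ⟨j, hj⟩, ← Ideal.span_singleton_pow, Ideal.radical_pow _ (pow_div_gcd_pos hN _).ne',
        ((Ideal.isRadical_iff_quotient_reduced _).2 hred).radical]
    · rw [hmiss j hj, Ideal.radical_top, Ideal.top_pow]
  · obtain ⟨V₀, hyV₀, hle, -, hmiss⟩ := exists_away f hL hN hNk hD hs hR y hT V hy
    refine ⟨V₀, hyV₀, hle, fun j => ?_⟩
    rw [Scheme.IdealSheafData.ideal_pow, Pi.pow_apply, Scheme.IdealSheafData.radical_ideal, hmiss, Ideal.radical_top,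
      Ideal.top_pow]

theorem comap_eq_radical_pow (W : X.Opens)
    (hW : ∀ x ∈ W, ∀ j j' : Fin r, x ∈ (D j).support → x ∈ (D j').support → j = j')
    (j : Fin r) (V : Y.affineOpens) (hV : V.1 ≤ π ⁻¹ᵁ W) :
    ((D j).comap π).ideal V = (((D j).comap π).radical ^ (N / Nat.gcd N (α j))).ideal V := by
  refine ideal_eq_of_local V fun y hy => ?_
  obtain ⟨V₀, hyV₀, hle, h⟩ := exists_local_pow f hL hN hNk hD hs hR y j
    (fun a b _ _ => hW (π y) (hV hy) a b) V.1 hy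
  exact ⟨V₀, hyV₀, hle, h j⟩

theorem divIdeal_comap_eq (W : X.Opens)
    (hW : ∀ x ∈ W, ∀ j j' : Fin r, x ∈ (D j).support → x ∈ (D j').support → j = j')
    (V : Y.affineOpens) (hV : V.1 ≤ π ⁻¹ᵁ W) :
    ((CycCov.divIdeal D α).comap π).ideal V =
      (∏ j : Fin r, ((D j).comap π).radical ^ (N * α j / Nat.gcd N (α j))).ideal V := by
  refine ideal_eq_of_local V fun y hy => ?_
  obtain ⟨U, hxU, -⟩ := exists_affine_le (X := X) ⊤ (x := π y) trivial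
  rcases Nat.eq_zero_or_pos r with hr | hr
  · subst hr
    obtain ⟨V₀, hyV₀, hle⟩ := exists_affine_le (V.1 ⊓ π ⁻¹ᵁ U.1) (x := y) ⟨hy, hxU⟩
    refine ⟨V₀, hyV₀, hle.trans inf_le_left, ?_⟩
    rw [comap_divIdeal_ideal D α π U V₀ (hle.trans inf_le_right), prod_ideal]
    simp
  obtain ⟨V₀, hyV₀, hle, h⟩ := exists_local_pow f hL hN hNk hD hs hR y ⟨0, hr⟩
    (fun a b _ _ => hW (π y) (hV hy) a b) (V.1 ⊓ π ⁻¹ᵁ U.1) ⟨hy, hxU⟩
  refine ⟨V₀, hyV₀, hle.trans inf_le_left, ?_⟩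
  rw [comap_divIdeal_ideal D α π U V₀ (hle.trans inf_le_right), prod_ideal, Finset.prod_apply]
  refine Finset.prod_congr rfl fun j _ => ?_
  rw [h j, Scheme.IdealSheafData.ideal_pow, Scheme.IdealSheafData.ideal_pow, Pi.pow_apply, Pi.pow_apply,
    ← pow_mul, Nat.div_mul_right_comm (Nat.gcd_dvd_left N (α j))]

theorem isNCD_radical_comap
    (hdisj : ∀ (x : X) (j j' : Fin r), 0 < α j → 0 < α j' → x ∈ (D j).support → x ∈ (D j').support → j = j') :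
    LogNCD.IsNCD (fun j : Fin r => ((D j).comap π).radical) (π ≫ f) := by
  intro y hTy
  have hsupp : ∀ j, y ∈ ((D j).comap π).radical.support ↔ π y ∈ (D j).support := fun j => by
    rw [Scheme.IdealSheafData.support_radical, Scheme.IdealSheafData.support_comap]; rfl
  obtain ⟨⟨j₀, hj₀⟩⟩ := hTy
  obtain ⟨V₀, hyV₀, n, v, idx, -, hinj, hv, hth, hmiss⟩ :=
    exists_coords f hL hN hNk hD hs hR y (hdisj (π y)) ⟨⟨j₀, (hsupp j₀).1 hj₀⟩⟩ ⊤ trivial
  have hcoord := coordHom_topIso_inv (π ≫ f) V₀.1 v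
  refine ⟨V₀.1, hyV₀, n, fun i => V₀.1.topIso.inv (v i), fun j => (idx ⟨j.1, (hsupp j.1).1 j.2⟩).down, ?_,
    etale_homOfVector (π ≫ f) V₀ _ (hcoord ▸ hv), fun j U h => ?_, fun j hj U h => ?_⟩
  · intro a b hab
    exact Subtype.ext (congrArg (fun z : LogNCD.Through D (π y) => z.1) (hinj (ULift.ext _ _ hab)) :)
  · show (((D j.1).comap π).radical).ideal U = _
    rw [← Scheme.IdealSheafData.map_ideal (((D j.1).comap π).radical) (U := U) (V := V₀) h,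
      Scheme.IdealSheafData.radical_ideal, hth ⟨j.1, (hsupp j.1).1 j.2⟩, ← Ideal.span_singleton_pow,
      Ideal.radical_pow _ (pow_div_gcd_pos hN _).ne']
    let : Algebra (MvPolynomial (ULift.{u} (Fin n)) k) Γ(Y, V₀.1) :=
      (MvPolynomial.eval₂Hom (scal (π ≫ f) V₀.1) v).toAlgebra
    have : Algebra.Etale (MvPolynomial (ULift.{u} (Fin n)) k) Γ(Y, V₀.1) := hv
    have halg : algebraMap (MvPolynomial (ULift.{u} (Fin n)) k) Γ(Y, V₀.1)
        (MvPolynomial.X (idx ⟨j.1, (hsupp j.1).1 j.2⟩)) = v (idx ⟨j.1, (hsupp j.1).1 j.2⟩) :=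
      MvPolynomial.eval₂Hom_X' _ _ _
    have hred := isReduced_quot (k := k) (C := Γ(Y, V₀.1)) ({idx ⟨j.1, (hsupp j.1).1 j.2⟩} : Set (ULift.{u} (Fin n)))
    rw [Set.image_singleton] at hred
    rw [halg] at hred
    rw [((Ideal.isRadical_iff_quotient_reduced _).2 hred).radical, Ideal.map_span, Set.image_singleton]
    congr 2
    exact (sectOn_topIso_inv _ _).symm
  · show (((D j).comap π).radical).ideal U = ⊤
    rw [← Scheme.IdealSheafData.map_ideal (((D j).comap π).radical) (U := U) (V := V₀) h,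
      Scheme.IdealSheafData.radical_ideal, hmiss j (fun h' => hj ((hsupp j).2 h')), Ideal.radical_top, Ideal.map_top]

end

end Groth.Agent.CycCovGeo
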